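import Cfsg.Agent.H16.J4Low.Word

/-!
Group theory for a finite group with the checked relations of J4: the order bound and simplicity.
-/

set_option autoImplicit false

namespace Cfsg.Agent.H16.J4Low

open scoped Pointwise

variable {G : Type*} [Group G]

theorem card_sup_of {H N : Subgroup G}
    (h : H ≤ Subgroup.normalizer (N : Set G)) (d : Disjoint H N) :
    Nat.card (H ⊔ N : Subgroup G) = Nat.card H * Nat.card N := by
  rw [← Nat.card_prod]
  symm
  refine Nat.card_congr (Equiv.ofBijective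
    (fun p : H × N => ⟨(p.1 : G) * p.2,
      mul_mem ((le_sup_left : H ≤ H ⊔ N) p.1.2) ((le_sup_right : N ≤ H ⊔ N) p.2.2)⟩) ⟨?_, ?_⟩)
  · intro p q hpq
    exact Subgroup.mul_injective_of_disjoint d (Subtype.ext_iff.mp hpq)
  · rintro ⟨g, hg⟩
    have hg' : g ∈ ((H ⊔ N : Subgroup G) : Set G) := hg
    rw [Subgroup.coe_mul_of_left_le_normalizer_right H N h, Set.mem_mul] at hg'
    obtain ⟨a, ha, b, hb, rfl⟩ := hg'
    exact ⟨(⟨a, ha⟩, ⟨b, hb⟩), rfl⟩

theorem card_zpowers_prime {p : ℕ} (hp : p.Prime) {g : G} (h : g ^ p = 1)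
    (hne : g ≠ 1) : Nat.card (Subgroup.zpowers g) = p := by
  have := Fact.mk hp
  rw [Nat.card_zpowers]; exact orderOf_eq_prime h hne

theorem disjoint_zpowers_prime {p : ℕ} (hp : p.Prime) {g : G}
    (h : g ^ p = 1) {N : Subgroup G} (hg : g ∉ N) : Disjoint (Subgroup.zpowers g) N := by
  have hne : g ≠ 1 := fun e => hg (e ▸ one_mem N)
  rw [disjoint_iff]
  by_contra hbot
  have hd : Nat.card (Subgroup.zpowers g ⊓ N : Subgroup G) ∣ p := by
    have := Subgroup.card_dvd_of_le (inf_le_left : Subgroup.zpowers g ⊓ N ≤ Subgroup.zpowers g)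
    rwa [card_zpowers_prime hp h hne] at this
  rcases hp.eq_one_or_self_of_dvd _ hd with h1 | h1
  · exact hbot (Subgroup.card_eq_one.mp h1)
  · have : Finite (Subgroup.zpowers g) :=
      Nat.finite_of_card_ne_zero (by rw [card_zpowers_prime hp h hne]; exact hp.ne_zero)
    have he := Subgroup.eq_of_le_of_card_ge inf_le_left
      (le_of_eq ((card_zpowers_prime hp h hne).trans h1.symm))
    exact hg ((he.ge (Subgroup.mem_zpowers g) : g ∈ Subgroup.zpowers g ⊓ N).2)

theorem mem_normalizer_closure [Finite G] {S : Set G} {g : G}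
    (h : ∀ e ∈ S, g * e * g⁻¹ ∈ Subgroup.closure S) :
    g ∈ Subgroup.normalizer ((Subgroup.closure S : Subgroup G) : Set G) := by
  have hle : (Subgroup.closure S).map (MulAut.conj g).toMonoidHom ≤ Subgroup.closure S := by
    rw [MonoidHom.map_closure, Subgroup.closure_le]
    rintro _ ⟨e, he, rfl⟩
    simpa using h e he
  have heq := Subgroup.eq_of_le_of_card_ge hle
    (le_of_eq (Nat.card_congr ((Subgroup.closure S).equivMapOfInjective _
      (MulAut.conj g).injective).toEquiv))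
  rw [Subgroup.mem_normalizer_iff]
  intro k
  constructor
  · intro hk
    exact hle ⟨k, hk, by simp⟩
  · intro hk
    rw [← heq] at hk
    obtain ⟨e, he, hek⟩ := hk
    have hek' : g * e * g⁻¹ = g * k * g⁻¹ := by simpa using hek
    have : e = k := by simpa using hek'
    exact this ▸ he

/-- checked relations among elements of a group -/
structure Cert (G : Type*) [Group G] where
  x : G
  y : G
  t : G
  A : G
  B : G
  C : G
  q : G
  h : G
  a : ℕ → G
  bs : List G
  x_ne : x ≠ 1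
  sq : ∀ b ∈ bs, b * b = 1
  comm : ∀ b ∈ bs, ∀ c ∈ bs, b * c = c * b
  span_nc : ∀ e ∈ (spanU bs).tail, ¬ Commute (x * y) e
  len : bs.length = 11
  conjx : ∀ b ∈ bs, x * b * x⁻¹ ∈ Subgroup.closure {g | g ∈ bs}
  conjy : ∀ b ∈ bs, y⁻¹ * b * y ∈ Subgroup.closure {g | g ∈ bs}
  h_mem : h ∈ Subgroup.closure {g | g ∈ bs}
  bs_mem : ∀ b ∈ bs, b ∈ Subgroup.closure {x, y, h}
  g_pow : (x * y) ^ 23 = 1
  A_pow : A ^ 11 = 1
  A_ne : A ≠ 1
  B_pow : B ^ 11 = 1
  B_ne : B ≠ 1
  C_pow : C ^ 11 = 1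
  C_ne : C ≠ 1
  C_eq : C = A⁻¹ * B⁻¹ * A * B
  A_C : Commute A C
  B_C : Commute B C
  C_nc : ¬ Commute C x
  a_pow : ∀ p ∈ [29, 31, 37, 43], a p ^ p = 1
  a_ne : ∀ p ∈ [29, 31, 37, 43], a p ≠ 1
  a_nc : ∀ p ∈ [29, 31, 37, 43], ¬ Commute (a p) x
  q_pow : q ^ 3 = 1
  q_ne : q ≠ 1
  q_eq : q = h * (t * h * t)
  t_sq : t * t = 1

theorem spanU_map {H : Type*} [Group H] (f : H →* G) : ∀ L : List H,
    spanU (L.map f) = (spanU L).map f
  | [] => by simp [spanU]
  | b :: L => by
    rw [List.map_cons, spanU, spanU, spanU_map f L, List.map_append, List.map_map, List.map_map]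
    congr 1
    exact List.map_congr_left fun a _ => (map_mul f a b).symm

namespace Cert

variable (c : Cert G)

/-- the subgroup generated by `x` and `y` -/
def M : Subgroup G := Subgroup.closure {c.x, c.y}

/-- the elementary abelian group of order 2048 -/
def E : Subgroup G := Subgroup.closure {g | g ∈ c.bs}

/-- the group of order 121 -/
def Q : Subgroup G := Subgroup.zpowers c.A ⊔ Subgroup.zpowers c.C

/-- the group of order 1331 -/
def P : Subgroup G := Subgroup.zpowers c.B ⊔ c.Q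

theorem x_mem : c.x ∈ c.M := Subgroup.subset_closure (Set.mem_insert _ _)

theorem y_mem : c.y ∈ c.M :=
  Subgroup.subset_closure (Set.mem_insert_of_mem _ (Set.mem_singleton _))

theorem g_mem : c.x * c.y ∈ c.M := mul_mem c.x_mem c.y_mem

theorem h_mem_E : c.h ∈ c.E := c.h_mem

/-- the checked relations inside a subgroup containing all the elements -/
def restrict (R : Subgroup G) (hx : c.x ∈ R) (hy : c.y ∈ R) (ht : c.t ∈ R) (hA : c.A ∈ R)
    (hB : c.B ∈ R) (hC : c.C ∈ R) (hq : c.q ∈ R) (hh : c.h ∈ R) (ha : ∀ p, c.a p ∈ R)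
    (hbs : ∀ b ∈ c.bs, b ∈ R) : Cert R where
  x := ⟨c.x, hx⟩
  y := ⟨c.y, hy⟩
  t := ⟨c.t, ht⟩
  A := ⟨c.A, hA⟩
  B := ⟨c.B, hB⟩
  C := ⟨c.C, hC⟩
  q := ⟨c.q, hq⟩
  h := ⟨c.h, hh⟩
  a p := ⟨c.a p, ha p⟩
  bs := c.bs.attach.map fun b => ⟨b.1, hbs b.1 b.2⟩
  x_ne e := c.x_ne (congrArg Subtype.val e)
  sq b hb := by
    simp only [List.mem_map, List.mem_attach, true_and] at hb
    obtain ⟨⟨d, hd⟩, rfl⟩ := hb
    exact Subtype.ext (c.sq d hd)
  comm b hb b' hb' := by
    simp only [List.mem_map, List.mem_attach, true_and] at hb hb'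
    obtain ⟨⟨d, hd⟩, rfl⟩ := hb
    obtain ⟨⟨d', hd'⟩, rfl⟩ := hb'
    exact Subtype.ext (c.comm d hd d' hd')
  span_nc e he hcm := by
    have h1 := spanU_map R.subtype (c.bs.attach.map fun b => (⟨b.1, hbs b.1 b.2⟩ : R))
    rw [List.map_map, show (R.subtype ∘ fun b : {b // b ∈ c.bs} => (⟨b.1, hbs b.1 b.2⟩ : R)) =
      Subtype.val from rfl, List.attach_map_subtype_val] at h1
    refine c.span_nc e.1 ?_ (congrArg Subtype.val hcm)
    rw [h1, ← List.map_tail]
    exact List.mem_map_of_mem he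
  len := by simp [c.len]
  conjx b hb := by
    simp only [List.mem_map, List.mem_attach, true_and] at hb
    obtain ⟨⟨d, hd⟩, rfl⟩ := hb
    rw [← Subgroup.mem_map_iff_mem R.subtype_injective, MonoidHom.map_closure]
    refine Subgroup.closure_mono ?_ (c.conjx d hd)
    intro u hu
    exact ⟨⟨u, hbs u hu⟩, List.mem_map.mpr ⟨⟨u, hu⟩, List.mem_attach _ _, rfl⟩, rfl⟩
  conjy b hb := by
    simp only [List.mem_map, List.mem_attach, true_and] at hb
    obtain ⟨⟨d, hd⟩, rfl⟩ := hb
    rw [← Subgroup.mem_map_iff_mem R.subtype_injective, MonoidHom.map_closure]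
    refine Subgroup.closure_mono ?_ (c.conjy d hd)
    intro u hu
    exact ⟨⟨u, hbs u hu⟩, List.mem_map.mpr ⟨⟨u, hu⟩, List.mem_attach _ _, rfl⟩, rfl⟩
  h_mem := by
    rw [← Subgroup.mem_map_iff_mem R.subtype_injective, MonoidHom.map_closure]
    refine Subgroup.closure_mono ?_ c.h_mem
    intro u hu
    exact ⟨⟨u, hbs u hu⟩, List.mem_map.mpr ⟨⟨u, hu⟩, List.mem_attach _ _, rfl⟩, rfl⟩
  bs_mem b hb := by
    simp only [List.mem_map, List.mem_attach, true_and] at hb
    obtain ⟨⟨d, hd⟩, rfl⟩ := hb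
    rw [← Subgroup.mem_map_iff_mem R.subtype_injective, MonoidHom.map_closure, Set.image_insert_eq,
      Set.image_pair]
    exact c.bs_mem d hd
  g_pow := Subtype.ext (by simpa using c.g_pow)
  A_pow := Subtype.ext (by simpa using c.A_pow)
  A_ne e := c.A_ne (congrArg Subtype.val e)
  B_pow := Subtype.ext (by simpa using c.B_pow)
  B_ne e := c.B_ne (congrArg Subtype.val e)
  C_pow := Subtype.ext (by simpa using c.C_pow)
  C_ne e := c.C_ne (congrArg Subtype.val e)
  C_eq := Subtype.ext (by simpa using c.C_eq)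
  A_C := Subtype.ext c.A_C.eq
  B_C := Subtype.ext c.B_C.eq
  C_nc hcm := c.C_nc (congrArg Subtype.val hcm)
  a_pow p hp := Subtype.ext (by simpa using c.a_pow p hp)
  a_ne p hp e := c.a_ne p hp (congrArg Subtype.val e)
  a_nc p hp hcm := c.a_nc p hp (congrArg Subtype.val hcm)
  q_pow := Subtype.ext (by simpa using c.q_pow)
  q_ne e := c.q_ne (congrArg Subtype.val e)
  q_eq := Subtype.ext (by simpa using c.q_eq)
  t_sq := Subtype.ext (by simpa using c.t_sq)

variable [Finite G]

theorem spec : (∀ g, g ∈ c.E ↔ g ∈ spanU c.bs) ∧ Nat.card c.E = 2 ^ 11 := by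
  have h := spanU_spec c.bs c.sq c.comm
    (fun e he h1 => c.span_nc e he (h1 ▸ Commute.one_right _))
  exact ⟨h.1, by rw [← c.len]; exact h.2⟩

theorem card_E : Nat.card c.E = 2 ^ 11 := c.spec.2

theorem cent_E {e : G} (he : e ∈ c.E) (hc : Commute (c.x * c.y) e) : e = 1 := by
  have h := (c.spec.1 e).mp he
  obtain ⟨r, hr⟩ : ∃ r, spanU c.bs = 1 :: r := by
    have h := one_mem_spanU c.bs
    rcases hS : spanU c.bs with _ | ⟨a, r⟩
    · rw [hS] at h; simp at h
    · rw [hS] at h; simp at h; exact ⟨r, by rw [h]⟩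
  rw [hr, List.mem_cons] at h
  rcases h with h | h
  · exact h
  · exact absurd hc (c.span_nc e (by rw [hr]; exact h))

theorem M_normalises : c.M ≤ Subgroup.normalizer (c.E : Set G) := by
  rw [M, Subgroup.closure_le]
  rintro g (rfl | rfl)
  · exact mem_normalizer_closure c.conjx
  · have h : c.y⁻¹ ∈ Subgroup.normalizer (c.E : Set G) :=
      mem_normalizer_closure (fun e he => by rw [inv_inv]; exact c.conjy e he)
    simpa using inv_mem h

theorem disjoint_M_E (hM : Nat.card c.M = 244823040) (hs : IsSimpleGroup c.M) :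
    Disjoint c.M c.E := by
  have hn : (c.E.subgroupOf c.M).Normal := by
    refine ⟨fun n hn g => ?_⟩
    rw [Subgroup.mem_subgroupOf] at hn ⊢
    exact ((Subgroup.mem_normalizer_iff.mp (c.M_normalises g.2)) _).mp hn
  rw [disjoint_iff]
  rcases hn.eq_bot_or_eq_top with h | h
  · rw [Subgroup.subgroupOf_eq_bot] at h
    exact disjoint_iff.mp (disjoint_comm.mp h)
  · rw [Subgroup.subgroupOf_eq_top] at h
    have := Subgroup.card_dvd_of_le h
    rw [hM, c.card_E] at this
    norm_num at this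

theorem card_H (hM : Nat.card c.M = 244823040) (hs : IsSimpleGroup c.M) :
    Nat.card (c.M ⊔ c.E : Subgroup G) = 244823040 * 2 ^ 11 := by
  rw [card_sup_of c.M_normalises (c.disjoint_M_E hM hs), hM, c.card_E]

theorem closure_xyh : Subgroup.closure {c.x, c.y, c.h} = c.M ⊔ c.E := by
  apply le_antisymm
  · rw [Subgroup.closure_le]
    rintro g (rfl | rfl | rfl)
    · exact (le_sup_left : c.M ≤ c.M ⊔ c.E) c.x_mem
    · exact (le_sup_left : c.M ≤ c.M ⊔ c.E) c.y_mem
    · exact (le_sup_right : c.E ≤ c.M ⊔ c.E) c.h_mem_E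
  · refine sup_le ?_ ?_
    · rw [M]; exact Subgroup.closure_mono (by intro g hg; rcases hg with rfl | rfl <;> simp)
    · rw [E, Subgroup.closure_le]; exact c.bs_mem

theorem A_notMem : c.A ∉ Subgroup.zpowers c.C := by
  intro h
  obtain ⟨k, hk⟩ := Subgroup.mem_zpowers_iff.mp h
  have hc : Commute c.A c.B := by
    rw [← hk]; exact (c.B_C.symm).zpow_left k
  apply c.C_ne
  rw [c.C_eq, mul_assoc, hc.eq, mul_assoc, inv_mul_cancel_left, inv_mul_cancel]

theorem card_Q : Nat.card c.Q = 121 := by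
  have hn : Subgroup.zpowers c.A ≤
      Subgroup.normalizer ((Subgroup.zpowers c.C : Subgroup G) : Set G) := by
    rw [Subgroup.zpowers_le, Subgroup.zpowers_eq_closure]
    apply mem_normalizer_closure
    rintro e rfl
    rw [c.A_C.eq, mul_inv_cancel_right]
    exact Subgroup.subset_closure rfl
  rw [Q, card_sup_of hn (disjoint_zpowers_prime (by norm_num) c.A_pow c.A_notMem),
    card_zpowers_prime (by norm_num) c.A_pow c.A_ne, card_zpowers_prime (by norm_num) c.C_pow c.C_ne]

omit [Finite G] in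
theorem Q_eq : c.Q = Subgroup.closure {c.A, c.C} := by
  rw [Q, Subgroup.zpowers_eq_closure, Subgroup.zpowers_eq_closure, ← Subgroup.closure_union,
    Set.singleton_union]

omit [Finite G] in
theorem Q_comm_A {q : G} (h : q ∈ c.Q) : Commute q c.A := by
  have hle : c.Q ≤ Subgroup.centralizer {c.A} := by
    rw [c.Q_eq, Subgroup.closure_le]
    rintro g (rfl | rfl) <;> rw [SetLike.mem_coe, Subgroup.mem_centralizer_singleton_iff]
    exact c.A_C.symm.eq
  exact Subgroup.mem_centralizer_singleton_iff.mp (hle h)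

omit [Finite G] in
theorem B_notMem : c.B ∉ c.Q := by
  intro h
  apply c.C_ne
  rw [c.C_eq, mul_assoc, ← (c.Q_comm_A h).eq, mul_assoc, inv_mul_cancel_left, inv_mul_cancel]

theorem card_P : Nat.card c.P = 1331 := by
  have hn : Subgroup.zpowers c.B ≤ Subgroup.normalizer ((c.Q : Subgroup G) : Set G) := by
    rw [Subgroup.zpowers_le]
    have h : c.B⁻¹ ∈ Subgroup.normalizer ((c.Q : Subgroup G) : Set G) := by
      rw [c.Q_eq]
      apply mem_normalizer_closure
      rintro e (rfl | rfl)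
      · have : c.B⁻¹ * c.A * c.B⁻¹⁻¹ = c.A * c.C := by rw [c.C_eq]; group
        rw [this]
        exact mul_mem (Subgroup.subset_closure (Set.mem_insert _ _))
          (Subgroup.subset_closure (Set.mem_insert_of_mem _ (Set.mem_singleton _)))
      · rw [c.B_C.inv_left.eq, mul_inv_cancel_right]
        exact Subgroup.subset_closure (Set.mem_insert_of_mem _ (Set.mem_singleton _))
    simpa using inv_mem h
  rw [P, card_sup_of hn (disjoint_zpowers_prime (by norm_num) c.B_pow c.B_notMem),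
    card_zpowers_prime (by norm_num) c.B_pow c.B_ne, c.card_Q]

omit [Finite G] in
theorem card_a {p : ℕ} (hp : p ∈ [29, 31, 37, 43]) : Nat.card (Subgroup.zpowers (c.a p)) = p := by
  refine card_zpowers_prime ?_ (c.a_pow p hp) (c.a_ne p hp)
  simp only [List.mem_cons, List.not_mem_nil, or_false] at hp
  rcases hp with rfl | rfl | rfl | rfl <;> norm_num

theorem card_dvd (hM : Nat.card c.M = 244823040) (hs : IsSimpleGroup c.M) :
    86775571046077562880 ∣ Nat.card G := by
  have h1 : 244823040 * 2 ^ 11 ∣ Nat.card G := by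
    rw [← c.card_H hM hs]
    exact Subgroup.card_subgroup_dvd_card _
  have ha : ∀ p ∈ [29, 31, 37, 43], p ∣ Nat.card G := fun p hp => by
    have := Subgroup.card_subgroup_dvd_card (Subgroup.zpowers (c.a p))
    rwa [c.card_a hp] at this
  have h2 : 11 ^ 3 * (29 * (31 * (37 * 43))) ∣ Nat.card G := by
    refine Nat.Coprime.mul_dvd_of_dvd_of_dvd (by norm_num) ?_
      (Nat.Coprime.mul_dvd_of_dvd_of_dvd (by norm_num) (ha 29 (by simp))
        (Nat.Coprime.mul_dvd_of_dvd_of_dvd (by norm_num) (ha 31 (by simp))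
          (Nat.Coprime.mul_dvd_of_dvd_of_dvd (by norm_num) (ha 37 (by simp)) (ha 43 (by simp)))))
    have := Subgroup.card_subgroup_dvd_card c.P
    rw [c.card_P] at this; exact this
  have h := Nat.lcm_dvd h1 h2
  rwa [show Nat.lcm (244823040 * 2 ^ 11) (11 ^ 3 * (29 * (31 * (37 * 43)))) = 86775571046077562880
    from by decide +kernel] at h

end Cert

end Cfsg.Agent.H16.J4Low
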