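import Cfsg.Agent.H16.J4Low.Abs

/-!
Simplicity of a group of the order of J4 with the checked relations.
-/

set_option autoImplicit false

namespace Cfsg.Agent.H16.J4Low

open scoped Pointwise

variable {G : Type*} [Group G]

theorem card_fix_modEq [Finite G] {p : ℕ} (hp : p.Prime) {g : G} (hg : g ^ p = 1) {K : Subgroup G}
    (hgK : g ∈ Subgroup.normalizer (K : Set G)) :
    Nat.card K ≡ Nat.card (K ⊓ Subgroup.centralizer {g} : Subgroup G) [MOD p] := by
  have := Fact.mk hp
  have hmem : ∀ a : Subgroup.zpowers g, ∀ k : K, (a : G) * k * (a : G)⁻¹ ∈ K := fun a k =>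
    (Subgroup.mem_normalizer_iff.mp ((Subgroup.zpowers_le.mpr hgK) a.2) _).mp k.2
  letI : MulAction (Subgroup.zpowers g) K :=
    { smul := fun a k => ⟨(a : G) * k * (a : G)⁻¹, hmem a k⟩
      one_smul := fun k => Subtype.ext (show ((1 : Subgroup.zpowers g) : G) * k * _ = k by simp)
      mul_smul := fun a b k => Subtype.ext (show ((a * b : Subgroup.zpowers g) : G) * k * _ =
        (a : G) * ((b : G) * k * (b : G)⁻¹) * (a : G)⁻¹ by push_cast; group) }
  have hpg : IsPGroup p (Subgroup.zpowers g) := by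
    obtain ⟨i, -, hi⟩ := (Nat.dvd_prime_pow hp).mp
      (show Nat.card (Subgroup.zpowers g) ∣ p ^ 1 by
        rw [pow_one, Nat.card_zpowers]; exact orderOf_dvd_of_pow_eq_one hg)
    exact IsPGroup.of_card hi
  refine (hpg.card_modEq_card_fixedPoints K).trans ?_
  have e : MulAction.fixedPoints (Subgroup.zpowers g) K ≃ (K ⊓ Subgroup.centralizer {g} : Subgroup G) :=
    { toFun := fun k => ⟨(k.1 : G), k.1.2, by
        show (k.1 : G) ∈ Subgroup.centralizer {g}
        rw [Subgroup.mem_centralizer_singleton_iff]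
        have h : g * (k.1 : G) * g⁻¹ = k.1 :=
          congrArg Subtype.val (k.2 ⟨g, Subgroup.mem_zpowers g⟩)
        exact (mul_inv_eq_iff_eq_mul.mp h).symm⟩
      invFun := fun k => ⟨⟨k.1, k.2.1⟩, by
        intro a
        obtain ⟨i, hi⟩ := Subgroup.mem_zpowers_iff.mp a.2
        apply Subtype.ext
        show (a : G) * k.1 * (a : G)⁻¹ = k.1
        have hc : Commute g (k.1 : G) := (Subgroup.mem_centralizer_singleton_iff.mp k.2.2).symm
        rw [← hi, (hc.zpow_left i).eq, mul_inv_cancel_right]⟩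
      left_inv := fun k => rfl
      right_inv := fun k => rfl }
  rw [Nat.card_congr e]

theorem prime_of_dvd_idx {p : ℕ} (hp : p.Prime) (h : p ∣ 173067389) :
    p = 11 ∨ p = 29 ∨ p = 31 ∨ p = 37 ∨ p = 43 := by
  rw [show (173067389 : ℕ) = 11 * (11 * (29 * (31 * (37 * 43)))) by norm_num] at h
  have e : ∀ q : ℕ, q.Prime → p ∣ q → p = q := fun q hq => (Nat.prime_dvd_prime_iff_eq hp hq).mp
  rcases hp.dvd_mul.mp h with h | h
  · exact Or.inl (e 11 (by norm_num) h)
  rcases hp.dvd_mul.mp h with h | h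
  · exact Or.inl (e 11 (by norm_num) h)
  rcases hp.dvd_mul.mp h with h | h
  · exact Or.inr (Or.inl (e 29 (by norm_num) h))
  rcases hp.dvd_mul.mp h with h | h
  · exact Or.inr (Or.inr (Or.inl (e 31 (by norm_num) h)))
  rcases hp.dvd_mul.mp h with h | h
  · exact Or.inr (Or.inr (Or.inr (Or.inl (e 37 (by norm_num) h))))
  · exact Or.inr (Or.inr (Or.inr (Or.inr (e 43 (by norm_num) h))))

theorem eq_of_modEq_pp {p v d : ℕ} (hp : p.Prime) (hv : p ^ v ∣ 173067389) (hd : d ∣ p ^ v)
    (h : p ^ v ≡ d [MOD 23]) : d = p ^ v := by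
  rcases Nat.eq_zero_or_pos v with rfl | hv0
  · simpa using hd
  obtain ⟨j, hj, rfl⟩ := (Nat.dvd_prime_pow hp).mp hd
  have hpd : p ∣ 173067389 := (dvd_pow_self p hv0.ne').trans hv
  rcases prime_of_dvd_idx hp hpd with rfl | rfl | rfl | rfl | rfl
  · have : v < 3 := by
      by_contra hc
      exact absurd ((Nat.pow_dvd_pow 11 (by omega : 3 ≤ v)).trans hv) (by norm_num)
    interval_cases v <;> interval_cases j <;> simp_all [Nat.ModEq]
  all_goals
    have : v < 2 := by
      by_contra hc
      exact absurd ((Nat.pow_dvd_pow _ (by omega : 2 ≤ v)).trans hv) (by norm_num)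
    interval_cases v; interval_cases j <;> simp_all [Nat.ModEq]

theorem fixed_sylow [Finite G] {N : Subgroup G} [N.Normal] {g : G} (hg : g ^ 23 = 1) {p : ℕ}
    [Fact p.Prime] (h : ¬ 23 ∣ Nat.card (Sylow p N)) :
    ∃ P : Sylow p N, g ∈ Subgroup.normalizer (((P : Subgroup N).map N.subtype : Subgroup G) : Set G) := by
  have h23 : Fact (Nat.Prime 23) := ⟨by norm_num⟩
  let f : Subgroup.zpowers g →* MulAut N :=
    (MulAut.conjNormal (H := N)).comp (Subgroup.zpowers g).subtype
  letI : MulAction (Subgroup.zpowers g) (Sylow p N) := MulAction.compHom _ f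
  have hpg : IsPGroup 23 (Subgroup.zpowers g) := by
    obtain ⟨i, -, hi⟩ := (Nat.dvd_prime_pow h23.out).mp
      (show Nat.card (Subgroup.zpowers g) ∣ 23 ^ 1 by
        rw [pow_one, Nat.card_zpowers]; exact orderOf_dvd_of_pow_eq_one hg)
    exact IsPGroup.of_card hi
  obtain ⟨P, hP⟩ := hpg.nonempty_fixed_point_of_prime_not_dvd_card (Sylow p N) h
  refine ⟨P, ?_⟩
  rw [Subgroup.mem_normalizer_iff]
  have key : ∀ a ∈ Subgroup.zpowers g, ∀ k ∈ (P : Subgroup N).map N.subtype,
      a * k * a⁻¹ ∈ (P : Subgroup N).map N.subtype := by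
    rintro a ha _ ⟨k, hk, rfl⟩
    refine ⟨MulAut.conjNormal a k, ?_, MulAut.conjNormal_apply a k⟩
    have h1 : f ⟨a, ha⟩ • P = P := hP ⟨a, ha⟩
    have h2 : ((f ⟨a, ha⟩ • P : Sylow p N) : Subgroup N) = (P : Subgroup N) := by rw [h1]
    have h3 := Subgroup.smul_mem_pointwise_smul k (f ⟨a, ha⟩) (P : Subgroup N) hk
    rw [← Sylow.pointwise_smul_def, h2] at h3
    exact h3
  intro k
  refine ⟨key g (Subgroup.mem_zpowers g) k, fun hk => ?_⟩
  have := key g⁻¹ (inv_mem (Subgroup.mem_zpowers g)) _ hk
  simpa [mul_assoc] using this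

theorem central_mem_of_card [Finite G] {p k : ℕ} (hp : p.Prime) {z : G} (hz : z ^ p = 1)
    (hzc : z ∈ Subgroup.center G) {S : Subgroup G} (hS : Nat.card S = p ^ k)
    (hG : ¬ p ^ (k + 1) ∣ Nat.card G) : z ∈ S := by
  by_contra hzS
  apply hG
  have hne : z ≠ 1 := fun e => hzS (e ▸ one_mem S)
  have hn : Subgroup.zpowers z ≤ Subgroup.normalizer (S : Set G) := by
    rw [Subgroup.zpowers_le, Subgroup.mem_normalizer_iff]
    intro s
    rw [← Subgroup.mem_center_iff.mp hzc s, mul_inv_cancel_right]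
  have := Subgroup.card_subgroup_dvd_card (Subgroup.zpowers z ⊔ S)
  rw [card_sup_of hn (disjoint_zpowers_prime hp hz hzS), card_zpowers_prime hp hz hne, hS] at this
  rwa [pow_succ']

namespace Cert

variable (c : Cert G) [Finite G]

theorem normal_M_cases (hs : IsSimpleGroup c.M) {N : Subgroup G} (hN : N.Normal) :
    c.M ≤ N ∨ Disjoint c.M N := by
  rcases (Subgroup.Normal.subgroupOf hN c.M).eq_bot_or_eq_top with h | h
  · exact Or.inr (disjoint_comm.mp (Subgroup.subgroupOf_eq_bot.mp h))
  · exact Or.inl (Subgroup.subgroupOf_eq_top.mp h)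

theorem top_of_M_le (hgen : Subgroup.closure {c.x, c.y, c.t} = ⊤)
    (hrel : ∃ w ∈ c.M, (c.y * (w⁻¹ * c.t * w)) ^ 3 = 1) {N : Subgroup G} [N.Normal]
    (hMN : c.M ≤ N) : N = ⊤ := by
  obtain ⟨w, hw, hr⟩ := hrel
  have hx : c.x ∈ N := hMN c.x_mem
  have hy : c.y ∈ N := hMN c.y_mem
  have ht : c.t ∈ N := by
    rw [← QuotientGroup.eq_one_iff]
    have h1 := congrArg (QuotientGroup.mk' N) hr
    rw [map_pow, map_mul, map_mul, map_mul, map_inv, map_one] at h1
    simp only [QuotientGroup.mk'_apply] at h1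
    rw [(QuotientGroup.eq_one_iff _).mpr hy, (QuotientGroup.eq_one_iff _).mpr (hMN hw)] at h1
    simp only [inv_one, one_mul, mul_one] at h1
    have h2 : ((c.t : G ⧸ N)) * (c.t : G ⧸ N) = 1 := by
      rw [← QuotientGroup.mk_mul, c.t_sq]; rfl
    rw [pow_succ, pow_two, h2, one_mul] at h1
    exact h1
  rw [eq_top_iff, ← hgen, Subgroup.closure_le]
  rintro g (rfl | rfl | rfl) <;> assumption

theorem g_ne : c.x * c.y ≠ 1 := by
  intro h
  have hE : ∀ e ∈ c.E, e = 1 := fun e he => c.cent_E he (h ▸ Commute.one_left _)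
  have h1 := c.card_E
  rw [show c.E = ⊥ from (Subgroup.eq_bot_iff_forall _).mpr hE, Subgroup.card_bot] at h1
  norm_num at h1

theorem simple (hM : Nat.card c.M = 244823040) (hs : IsSimpleGroup c.M)
    (hgen : Subgroup.closure {c.x, c.y, c.t} = ⊤)
    (hrel : ∃ w ∈ c.M, (c.y * (w⁻¹ * c.t * w)) ^ 3 = 1)
    (hc : Nat.card G = 86775571046077562880) : IsSimpleGroup G := by
  have : Nontrivial G := ⟨⟨c.x, 1, c.x_ne⟩⟩
  refine ⟨fun N hN => ?_⟩
  rcases c.normal_M_cases hs hN with hMN | hdis
  · exact Or.inr (c.top_of_M_le hgen hrel hMN)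
  left
  have hNn : ∀ S : Subgroup G, S ≤ Subgroup.normalizer (N : Set G) := fun S => by
    rw [Subgroup.normalizer_eq_top (H := N)]; exact le_top
  have hN1 : Nat.card N ∣ 2 ^ 11 * 173067389 := by
    have h := Subgroup.card_subgroup_dvd_card (c.M ⊔ N)
    rw [card_sup_of (hNn _) hdis, hM, hc,
      show (86775571046077562880 : ℕ) = 244823040 * (2 ^ 11 * 173067389) by norm_num] at h
    exact Nat.dvd_of_mul_dvd_mul_left (by norm_num) h
  -- the intersection with the elementary abelian group
  have hKn : c.x * c.y ∈ Subgroup.normalizer ((c.E ⊓ N : Subgroup G) : Set G) := by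
    have h1 := c.M_normalises c.g_mem
    rw [Subgroup.mem_normalizer_iff] at h1 ⊢
    intro k
    rw [Subgroup.mem_inf, Subgroup.mem_inf, ← h1 k]
    exact and_congr_right fun _ =>
      ⟨fun hk => hN.conj_mem _ hk _, fun hk => by simpa [mul_assoc] using hN.conj_mem _ hk (c.x * c.y)⁻¹⟩
  have hmod := card_fix_modEq (by norm_num : Nat.Prime 23) c.g_pow hKn
  have hfix : (c.E ⊓ N ⊓ Subgroup.centralizer {c.x * c.y} : Subgroup G) = ⊥ := by
    rw [Subgroup.eq_bot_iff_forall]
    rintro e ⟨⟨he, -⟩, hec⟩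
    exact c.cent_E he (Subgroup.mem_centralizer_singleton_iff.mp hec).symm
  rw [hfix, Subgroup.card_bot] at hmod
  have hKd : Nat.card (c.E ⊓ N : Subgroup G) ∣ 2 ^ 11 := by
    rw [← c.card_E]; exact Subgroup.card_dvd_of_le inf_le_left
  obtain ⟨j, hj, hjK⟩ := (Nat.dvd_prime_pow Nat.prime_two).mp hKd
  rw [hjK] at hmod
  have hj' : j = 0 ∨ j = 11 := by
    interval_cases j <;> simp_all [Nat.ModEq]
  rcases hj' with rfl | rfl
  swap
  · exfalso
    have hEN : c.E ≤ N := by
      have := Subgroup.eq_of_le_of_card_ge (inf_le_left : c.E ⊓ N ≤ c.E)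
        (le_of_eq (c.card_E.trans hjK.symm))
      exact inf_eq_left.mp this
    have hh : c.h ∈ N := hEN c.h_mem_E
    have hq : c.q ∈ N := by
      rw [c.q_eq]
      have := hN.conj_mem _ hh c.t
      rw [inv_eq_of_mul_eq_one_right c.t_sq] at this
      exact mul_mem hh this
    have h3 : 3 ∣ Nat.card N := by
      have := Subgroup.card_dvd_of_le ((Subgroup.zpowers_le (H := N)).mpr hq)
      rwa [card_zpowers_prime (by norm_num) c.q_pow c.q_ne] at this
    exact absurd (h3.trans hN1) (by norm_num)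
  have hK : c.E ⊓ N = ⊥ := Subgroup.card_eq_one.mp (by rw [hjK, pow_zero])
  -- N meets M ⊔ E trivially
  have hMNE : Disjoint c.M (N ⊔ c.E) := by
    have hn : ((N ⊔ c.E).subgroupOf c.M).Normal := by
      refine ⟨fun n hn g => ?_⟩
      rw [Subgroup.mem_subgroupOf] at hn ⊢
      obtain ⟨u, hu, e, he, hue⟩ := Subgroup.mem_sup_of_normal_left.mp hn
      push_cast
      rw [← hue, show (g : G) * (u * e) * (g : G)⁻¹ =
        ((g : G) * u * (g : G)⁻¹) * ((g : G) * e * (g : G)⁻¹) by group]
      exact mul_mem ((le_sup_left : N ≤ N ⊔ c.E) (hN.conj_mem _ hu _))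
        ((le_sup_right : c.E ≤ N ⊔ c.E)
          ((Subgroup.mem_normalizer_iff.mp (c.M_normalises g.2) _).mp he))
    rcases hn.eq_bot_or_eq_top with h | h
    · exact disjoint_comm.mp (Subgroup.subgroupOf_eq_bot.mp h)
    exfalso
    obtain ⟨n, hn', e, he, hne⟩ :=
      Subgroup.mem_sup_of_normal_left.mp (Subgroup.subgroupOf_eq_top.mp h c.g_mem)
    have hgn : n ∈ Subgroup.normalizer (c.E : Set G) := by
      have : n = c.x * c.y * e⁻¹ := by rw [← hne, mul_inv_cancel_right]
      rw [this]
      exact mul_mem (c.M_normalises c.g_mem) (Subgroup.le_normalizer (c.E.inv_mem he))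
    have hall : ∀ f ∈ c.E, f = 1 := by
      intro f hf
      apply c.cent_E hf
      have hcomm : Commute n f := by
        have h1 : n * f * n⁻¹ * f⁻¹ ∈ c.E ⊓ N := by
          refine ⟨mul_mem ((Subgroup.mem_normalizer_iff.mp hgn f).mp hf) (c.E.inv_mem hf), ?_⟩
          rw [show n * f * n⁻¹ * f⁻¹ = n * (f * n⁻¹ * f⁻¹) by group]
          exact mul_mem hn' (hN.conj_mem _ (inv_mem hn') f)
        rw [hK, Subgroup.mem_bot] at h1
        exact mul_inv_eq_iff_eq_mul.mp (mul_inv_eq_one.mp h1)
      rw [← hne]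
      refine hcomm.mul_left ?_
      have he' := (c.spec.1 e).mp he
      have hab : c.E ≤ Subgroup.centralizer (c.E : Set G) := by
        rw [E, Subgroup.closure_le]
        intro a ha
        rw [SetLike.mem_coe, Subgroup.mem_centralizer_iff]
        intro b hb
        have hle : Subgroup.closure {g | g ∈ c.bs} ≤ Subgroup.centralizer {a} := by
          rw [Subgroup.closure_le]
          intro d hd
          rw [SetLike.mem_coe, Subgroup.mem_centralizer_singleton_iff]
          exact c.comm d hd a ha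
        exact Subgroup.mem_centralizer_singleton_iff.mp (hle hb)
      exact (Subgroup.mem_centralizer_iff.mp (hab he) f hf).symm
    have h1 := c.card_E
    rw [show c.E = ⊥ from (Subgroup.eq_bot_iff_forall _).mpr hall, Subgroup.card_bot] at h1
    norm_num at h1
  have hdisH : Disjoint (c.M ⊔ c.E) N := by
    rw [Subgroup.disjoint_def]
    intro u hu huN
    have hu' : u ∈ ((c.M ⊔ c.E : Subgroup G) : Set G) := hu
    rw [Subgroup.coe_mul_of_left_le_normalizer_right _ _ c.M_normalises, Set.mem_mul] at hu'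
    obtain ⟨m, hm, e, he, rfl⟩ := hu'
    have hm' : m ∈ N ⊔ c.E := by
      rw [show m = m * e * e⁻¹ by group]
      exact mul_mem ((le_sup_left : N ≤ N ⊔ c.E) huN) ((le_sup_right : c.E ≤ N ⊔ c.E) (inv_mem he))
    have hm1 : m = 1 := Subgroup.disjoint_def.mp hMNE hm hm'
    rw [hm1, one_mul] at huN ⊢
    have : e ∈ c.E ⊓ N := ⟨he, huN⟩
    rwa [hK, Subgroup.mem_bot] at this
  have hN2 : Nat.card N ∣ 173067389 := by
    have h := Subgroup.card_subgroup_dvd_card ((c.M ⊔ c.E) ⊔ N)
    rw [card_sup_of (hNn _) hdisH, c.card_H hM hs, hc,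
      show (86775571046077562880 : ℕ) = 244823040 * 2 ^ 11 * 173067389 by norm_num] at h
    exact Nat.dvd_of_mul_dvd_mul_left (by norm_num) h
  -- the element of order 23 centralises N
  set g := c.x * c.y with hgdef
  have hgC : N ≤ Subgroup.centralizer {g} := by
    have hle : (N ⊓ Subgroup.centralizer {g} : Subgroup G) = N := by
      refine Subgroup.eq_of_le_of_card_ge inf_le_left ?_
      refine Nat.le_of_dvd Nat.card_pos ?_
      rw [← Nat.factorization_prime_le_iff_dvd Nat.card_pos.ne' Nat.card_pos.ne']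
      intro p hp
      have := Fact.mk hp
      have hns : ¬ 23 ∣ Nat.card (Sylow p N) := fun h => by
        have := (h.trans (((default : Sylow p N).card_dvd_index).trans
          (Subgroup.index_dvd_card _))).trans hN2
        norm_num at this
      obtain ⟨P, hP⟩ := fixed_sylow c.g_pow hns
      have hmod := card_fix_modEq (by norm_num : Nat.Prime 23) c.g_pow hP
      have hcP : Nat.card ((P : Subgroup N).map N.subtype : Subgroup G) =
          p ^ (Nat.card N).factorization p := by
        rw [← Sylow.card_eq_multiplicity P]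
        exact (Nat.card_congr
          ((P : Subgroup N).equivMapOfInjective _ N.subtype_injective).toEquiv).symm
      rw [hcP] at hmod
      have hd : Nat.card ((P : Subgroup N).map N.subtype ⊓ Subgroup.centralizer {g} : Subgroup G) ∣
          p ^ (Nat.card N).factorization p := by
        rw [← hcP]; exact Subgroup.card_dvd_of_le inf_le_left
      have heq := eq_of_modEq_pp hp ((Nat.ordProj_dvd _ p).trans hN2) hd hmod
      have hsub : ((P : Subgroup N).map N.subtype ⊓ Subgroup.centralizer {g} : Subgroup G) ≤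
          N ⊓ Subgroup.centralizer {g} :=
        inf_le_inf_right _ (Subgroup.map_subtype_le _)
      have := Subgroup.card_dvd_of_le hsub
      rw [heq] at this
      exact (hp.pow_dvd_iff_le_factorization Nat.card_pos.ne').mp this
    exact inf_eq_left.mp hle
  have hcentral : N ≤ Subgroup.center G := by
    have hCn : (Subgroup.centralizer (N : Set G)).Normal := Subgroup.normal_centralizer
    have hgmem : g ∈ Subgroup.centralizer (N : Set G) := by
      rw [Subgroup.mem_centralizer_iff]
      intro n hn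
      exact Subgroup.mem_centralizer_singleton_iff.mp (hgC hn)
    rcases c.normal_M_cases hs hCn with hMC | hMC
    · have htop := c.top_of_M_le hgen hrel hMC
      intro n hn
      rw [Subgroup.mem_center_iff]
      intro u
      have hu : u ∈ Subgroup.centralizer (N : Set G) := by rw [htop]; trivial
      exact (Subgroup.mem_centralizer_iff.mp hu n hn).symm
    · exact absurd (Subgroup.disjoint_def.mp hMC c.g_mem hgmem) c.g_ne
  -- a central element of prime order
  by_contra hne
  have hcard : Nat.card N ≠ 1 := fun h => hne (Subgroup.card_eq_one.mp h)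
  obtain ⟨p, hp, hpN⟩ := Nat.exists_prime_and_dvd hcard
  have := Fact.mk hp
  obtain ⟨⟨z, hzN⟩, hz⟩ := exists_prime_orderOf_dvd_card' p hpN
  rw [Subgroup.orderOf_mk] at hz
  have hz1 : z ^ p = 1 := by rw [← hz]; exact pow_orderOf_eq_one z
  have hzne : z ≠ 1 := fun e => hp.ne_one (by rw [← hz, e, orderOf_one])
  have hzc := hcentral hzN
  have hcz : ∀ u : G, Commute u z := fun u => Subgroup.mem_center_iff.mp hzc u
  -- a subgroup of prime order containing z is central
  have hcen : ∀ S : Subgroup G, Nat.card S = p → z ∈ S → ∀ u ∈ S, ∀ v : G, Commute u v := by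
    intro S hS hzS u hu v
    have hle : Subgroup.zpowers z ≤ S := Subgroup.zpowers_le.mpr hzS
    have heq := Subgroup.eq_of_le_of_card_ge hle
      (le_of_eq (hS.trans (card_zpowers_prime hp hz1 hzne).symm))
    rw [← heq] at hu
    obtain ⟨i, rfl⟩ := Subgroup.mem_zpowers_iff.mp hu
    exact ((hcz v).zpow_right i).symm
  have ha : ∀ q ∈ [29, 31, 37, 43], q = p → ¬ q ^ 2 ∣ 86775571046077562880 → False := by
    rintro q hq rfl hnd
    have hS := c.card_a hq
    have hzS := central_mem_of_card (k := 1) hp hz1 hzc (by rw [pow_one]; exact hS) (by rw [hc]; exact hnd)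
    exact c.a_nc q hq (hcen _ hS hzS _ (Subgroup.mem_zpowers _) _)
  rcases prime_of_dvd_idx hp (hpN.trans hN2) with rfl | rfl | rfl | rfl | rfl
  · have hzP : z ∈ c.P :=
      central_mem_of_card (k := 3) hp hz1 hzc (by rw [c.card_P]; norm_num) (by rw [hc]; norm_num)
    have hnB : Subgroup.zpowers c.B ≤ Subgroup.normalizer ((c.Q : Subgroup G) : Set G) := by
      rw [Subgroup.zpowers_le]
      have h : c.B⁻¹ ∈ Subgroup.normalizer ((c.Q : Subgroup G) : Set G) := by
        rw [c.Q_eq]
        apply mem_normalizer_closure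
        rintro e (rfl | rfl)
        · have : c.B⁻¹ * c.A * c.B⁻¹⁻¹ = c.A * c.C := by rw [c.C_eq]; group
          rw [this]
          exact mul_mem (Subgroup.subset_closure (Set.mem_insert _ _))
            (Subgroup.subset_closure (Set.mem_insert_of_mem _ (Set.mem_singleton _)))
        · rw [c.B_C.inv_left.eq, mul_inv_cancel_right]
          exact Subgroup.subset_closure (Set.mem_insert_of_mem _ (Set.mem_singleton _))
      simpa using inv_mem h
    have hzP' : z ∈ ((Subgroup.zpowers c.B ⊔ c.Q : Subgroup G) : Set G) := hzP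
    rw [Subgroup.coe_mul_of_left_le_normalizer_right _ _ hnB, Set.mem_mul] at hzP'
    obtain ⟨b, hb, q, hq, hbq⟩ := hzP'
    have hbA : Commute b c.A := by
      have : b = z * q⁻¹ := by rw [← hbq, mul_inv_cancel_right]
      rw [this]
      exact Commute.mul_left (hcz c.A).symm (c.Q_comm_A hq).inv_left
    have hb1 : b = 1 := by
      by_contra hb1
      have hBA : Commute c.B c.A := by
        have hle : Subgroup.zpowers b ≤ Subgroup.zpowers c.B := Subgroup.zpowers_le.mpr hb
        have hd := Subgroup.card_dvd_of_le hle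
        rw [card_zpowers_prime (by norm_num) c.B_pow c.B_ne] at hd
        have hbc : Nat.card (Subgroup.zpowers b) = 11 := by
          rcases (by norm_num : Nat.Prime 11).eq_one_or_self_of_dvd _ hd with h1 | h1
          · exact absurd (Subgroup.zpowers_eq_bot.mp (Subgroup.card_eq_one.mp h1)) hb1
          · exact h1
        have heq := Subgroup.eq_of_le_of_card_ge hle
          (le_of_eq ((card_zpowers_prime (by norm_num) c.B_pow c.B_ne).trans hbc.symm))
        have hB : c.B ∈ Subgroup.zpowers b := by rw [heq]; exact Subgroup.mem_zpowers _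
        obtain ⟨i, hi⟩ := Subgroup.mem_zpowers_iff.mp hB
        rw [← hi]; exact hbA.zpow_left i
      apply c.C_ne
      rw [c.C_eq, mul_assoc, hBA.symm.eq, mul_assoc, inv_mul_cancel_left, inv_mul_cancel]
    rw [hb1, one_mul] at hbq
    subst hbq
    have hnA : Subgroup.zpowers c.A ≤
        Subgroup.normalizer ((Subgroup.zpowers c.C : Subgroup G) : Set G) := by
      rw [Subgroup.zpowers_le, Subgroup.zpowers_eq_closure]
      apply mem_normalizer_closure
      rintro e rfl
      rw [c.A_C.eq, mul_inv_cancel_right]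
      exact Subgroup.subset_closure rfl
    have hq' : q ∈ ((Subgroup.zpowers c.A ⊔ Subgroup.zpowers c.C : Subgroup G) : Set G) := hq
    rw [Subgroup.coe_mul_of_left_le_normalizer_right _ _ hnA, Set.mem_mul] at hq'
    obtain ⟨a, ha', cc, hcc, rfl⟩ := hq'
    obtain ⟨i, rfl⟩ := Subgroup.mem_zpowers_iff.mp ha'
    obtain ⟨k, rfl⟩ := Subgroup.mem_zpowers_iff.mp hcc
    have haB : Commute (c.A ^ i) c.B := by
      have := Commute.mul_left (hcz c.B).symm ((c.B_C.symm.zpow_left k).inv_left)
      rwa [mul_inv_cancel_right] at this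
    have ha1 : c.A ^ i = 1 := by
      by_contra h1
      have hle : Subgroup.zpowers (c.A ^ i) ≤ Subgroup.zpowers c.A :=
        Subgroup.zpowers_le.mpr (Subgroup.zpow_mem _ (Subgroup.mem_zpowers _) i)
      have hd := Subgroup.card_dvd_of_le hle
      rw [card_zpowers_prime (by norm_num) c.A_pow c.A_ne] at hd
      rcases (by norm_num : Nat.Prime 11).eq_one_or_self_of_dvd _ hd with h2 | h2
      · exact h1 (Subgroup.zpowers_eq_bot.mp (Subgroup.card_eq_one.mp h2))
      have heq := Subgroup.eq_of_le_of_card_ge hle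
        (le_of_eq ((card_zpowers_prime (by norm_num) c.A_pow c.A_ne).trans h2.symm))
      have hA : c.A ∈ Subgroup.zpowers (c.A ^ i) := by rw [heq]; exact Subgroup.mem_zpowers _
      obtain ⟨l, hl⟩ := Subgroup.mem_zpowers_iff.mp hA
      have hAB : Commute c.A c.B := hl ▸ haB.zpow_left l
      apply c.C_ne
      rw [c.C_eq, mul_assoc, hAB.eq, mul_assoc, inv_mul_cancel_left, inv_mul_cancel]
    refine c.C_nc (hcen _ (card_zpowers_prime (by norm_num) c.C_pow c.C_ne) ?_ _
      (Subgroup.mem_zpowers _) _)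
    rw [ha1, one_mul]
    exact Subgroup.zpow_mem _ (Subgroup.mem_zpowers _) k
  · exact ha 29 (by simp) rfl (by norm_num)
  · exact ha 31 (by simp) rfl (by norm_num)
  · exact ha 37 (by simp) rfl (by norm_num)
  · exact ha 43 (by simp) rfl (by norm_num)

end Cert

end Cfsg.Agent.H16.J4Low
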