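import Cfsg.Agent.H16.J4Low.Data6

/-!
Names and checked relations for the elements of the word tables.
-/

set_option autoImplicit false
set_option maxRecDepth 100000

namespace Cfsg.Agent.H16.J4Low

open Cfsg.Spor Cfsg.Agent.H45.J4Mat Cfsg.Agent.H45.J4Rep

/-- image of a tabled element -/
noncomputable def eA : GL112 := rho g321
theorem eA_val : Val eA n321 := v321
theorem eA_mem : eA ∈ rho.range := ⟨g321, rfl⟩
theorem eA_pow : eA ^ 11 = 1 := eA_val.pow_eq_one 11 (by decide +kernel)
theorem eA_ne : eA ≠ 1 := eA_val.ne Val.one (by decide +kernel)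

/-- image of a tabled element -/
noncomputable def eB : GL112 := rho g503
theorem eB_val : Val eB n503 := v503
theorem eB_mem : eB ∈ rho.range := ⟨g503, rfl⟩
theorem eB_pow : eB ^ 11 = 1 := eB_val.pow_eq_one 11 (by decide +kernel)
theorem eB_ne : eB ≠ 1 := eB_val.ne Val.one (by decide +kernel)

/-- image of a tabled element -/
noncomputable def eC : GL112 := rho g542
theorem eC_val : Val eC n542 := v542
theorem eC_mem : eC ∈ rho.range := ⟨g542, rfl⟩
theorem eC_pow : eC ^ 11 = 1 := eC_val.pow_eq_one 11 (by decide +kernel)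
theorem eC_ne : eC ≠ 1 := eC_val.ne Val.one (by decide +kernel)
theorem eC_not_comm_x : ¬ Commute eC (rho gx) := eC_val.not_commute val_x (by decide +kernel)

/-- image of a tabled element -/
noncomputable def e23 : GL112 := rho g543
theorem e23_val : Val e23 n543 := v543
theorem e23_mem : e23 ∈ rho.range := ⟨g543, rfl⟩
theorem e23_pow : e23 ^ 23 = 1 := e23_val.pow_eq_one 23 (by decide +kernel)
theorem e23_ne : e23 ≠ 1 := e23_val.ne Val.one (by decide +kernel)

/-- image of a tabled element -/
noncomputable def q3 : GL112 := rho g546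
theorem q3_val : Val q3 n546 := v546
theorem q3_mem : q3 ∈ rho.range := ⟨g546, rfl⟩
theorem q3_pow : q3 ^ 3 = 1 := q3_val.pow_eq_one 3 (by decide +kernel)
theorem q3_ne : q3 ≠ 1 := q3_val.ne Val.one (by decide +kernel)

/-- image of a tabled element -/
noncomputable def eh : GL112 := rho g519
theorem eh_val : Val eh n519 := v519
theorem eh_mem : eh ∈ rho.range := ⟨g519, rfl⟩

/-- image of a tabled element -/
noncomputable def a29 : GL112 := rho g40
theorem a29_val : Val a29 n40 := v40
theorem a29_mem : a29 ∈ rho.range := ⟨g40, rfl⟩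
theorem a29_pow : a29 ^ 29 = 1 := a29_val.pow_eq_one 29 (by decide +kernel)
theorem a29_ne : a29 ≠ 1 := a29_val.ne Val.one (by decide +kernel)
theorem a29_not_comm_x : ¬ Commute a29 (rho gx) := a29_val.not_commute val_x (by decide +kernel)

/-- image of a tabled element -/
noncomputable def a31 : GL112 := rho g7
theorem a31_val : Val a31 n7 := v7
theorem a31_mem : a31 ∈ rho.range := ⟨g7, rfl⟩
theorem a31_pow : a31 ^ 31 = 1 := a31_val.pow_eq_one 31 (by decide +kernel)
theorem a31_ne : a31 ≠ 1 := a31_val.ne Val.one (by decide +kernel)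
theorem a31_not_comm_x : ¬ Commute a31 (rho gx) := a31_val.not_commute val_x (by decide +kernel)

/-- image of a tabled element -/
noncomputable def a37 : GL112 := rho g18
theorem a37_val : Val a37 n18 := v18
theorem a37_mem : a37 ∈ rho.range := ⟨g18, rfl⟩
theorem a37_pow : a37 ^ 37 = 1 := a37_val.pow_eq_one 37 (by decide +kernel)
theorem a37_ne : a37 ≠ 1 := a37_val.ne Val.one (by decide +kernel)
theorem a37_not_comm_x : ¬ Commute a37 (rho gx) := a37_val.not_commute val_x (by decide +kernel)

/-- image of a tabled element -/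
noncomputable def a43 : GL112 := rho g31
theorem a43_val : Val a43 n31 := v31
theorem a43_mem : a43 ∈ rho.range := ⟨g31, rfl⟩
theorem a43_pow : a43 ^ 43 = 1 := a43_val.pow_eq_one 43 (by decide +kernel)
theorem a43_ne : a43 ≠ 1 := a43_val.ne Val.one (by decide +kernel)
theorem a43_not_comm_x : ¬ Commute a43 (rho gx) := a43_val.not_commute val_x (by decide +kernel)

/-- image of a tabled element -/
noncomputable def b0 : GL112 := rho g519
theorem b0_val : Val b0 n519 := v519
theorem b0_mem : b0 ∈ rho.range := ⟨g519, rfl⟩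

/-- image of a tabled element -/
noncomputable def b1 : GL112 := rho g521
theorem b1_val : Val b1 n521 := v521
theorem b1_mem : b1 ∈ rho.range := ⟨g521, rfl⟩

/-- image of a tabled element -/
noncomputable def b2 : GL112 := rho g523
theorem b2_val : Val b2 n523 := v523
theorem b2_mem : b2 ∈ rho.range := ⟨g523, rfl⟩

/-- image of a tabled element -/
noncomputable def b3 : GL112 := rho g525
theorem b3_val : Val b3 n525 := v525
theorem b3_mem : b3 ∈ rho.range := ⟨g525, rfl⟩

/-- image of a tabled element -/
noncomputable def b4 : GL112 := rho g527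
theorem b4_val : Val b4 n527 := v527
theorem b4_mem : b4 ∈ rho.range := ⟨g527, rfl⟩

/-- image of a tabled element -/
noncomputable def b5 : GL112 := rho g529
theorem b5_val : Val b5 n529 := v529
theorem b5_mem : b5 ∈ rho.range := ⟨g529, rfl⟩

/-- image of a tabled element -/
noncomputable def b6 : GL112 := rho g531
theorem b6_val : Val b6 n531 := v531
theorem b6_mem : b6 ∈ rho.range := ⟨g531, rfl⟩

/-- image of a tabled element -/
noncomputable def b7 : GL112 := rho g533
theorem b7_val : Val b7 n533 := v533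
theorem b7_mem : b7 ∈ rho.range := ⟨g533, rfl⟩

/-- image of a tabled element -/
noncomputable def b8 : GL112 := rho g535
theorem b8_val : Val b8 n535 := v535
theorem b8_mem : b8 ∈ rho.range := ⟨g535, rfl⟩

/-- image of a tabled element -/
noncomputable def b9 : GL112 := rho g537
theorem b9_val : Val b9 n537 := v537
theorem b9_mem : b9 ∈ rho.range := ⟨g537, rfl⟩

/-- image of a tabled element -/
noncomputable def b10 : GL112 := rho g539
theorem b10_val : Val b10 n539 := v539
theorem b10_mem : b10 ∈ rho.range := ⟨g539, rfl⟩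

theorem eA_eC : Commute eA eC := eA_val.commute eC_val (by decide +kernel)
theorem eB_eC : Commute eB eC := eB_val.commute eC_val (by decide +kernel)
theorem eC_eq : eC = eA⁻¹ * eB⁻¹ * eA * eB := by
  have h1 : eA * (eB * eC) = eA * (eB * (eA⁻¹ * eB⁻¹ * eA * eB)) → eC = eA⁻¹ * eB⁻¹ * eA * eB :=
    fun h => mul_left_cancel (mul_left_cancel h)
  have h2 : eA * eB = eB * eA * eC := (eA_val.mul' eB_val).eq ((eB_val.mul' eA_val).mul' eC_val) (by decide +kernel)
  have h3 : eC = (eB * eA)⁻¹ * (eA * eB) := by rw [h2, inv_mul_cancel_left]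
  rw [h3, mul_inv_rev]; group
theorem e23_eq : e23 = rho gx * rho gy := (e23_val).eq (val_x.mul' val_y) (by decide +kernel)
theorem q3_eq : q3 = eh * (rho gt * eh * rho gt) := q3_val.eq (eh_val.mul' ((val_t.mul' eh_val).mul' val_t)) (by decide +kernel)
theorem b0_eq : b0 = eh := b0_val.eq eh_val (by decide +kernel)
/-- generators of the elementary abelian group of order 2048 -/
noncomputable def bList : List GL112 := [b0, b1, b2, b3, b4, b5, b6, b7, b8, b9, b10]
/-- their packed images -/
def bListN : List ℕ := [n519, n521, n523, n525, n527, n529, n531, n533, n535, n537, n539]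
theorem bList_val : List.Forall₂ Val bList bListN :=
  List.Forall₂.cons b0_val (List.Forall₂.cons b1_val (List.Forall₂.cons b2_val (List.Forall₂.cons b3_val (List.Forall₂.cons b4_val (List.Forall₂.cons b5_val (List.Forall₂.cons b6_val (List.Forall₂.cons b7_val (List.Forall₂.cons b8_val (List.Forall₂.cons b9_val (List.Forall₂.cons b10_val (List.Forall₂.nil)))))))))))
theorem eh_eq : eh = (rho gy * (((rho gy * rho gx) ^ 4 * (rho gy)⁻¹ * rho gx)⁻¹ * rho gt *
    ((rho gy * rho gx) ^ 4 * (rho gy)⁻¹ * rho gx))) ^ 3 := by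
  exact h_word eh_val val_x val_y (show Val (rho gy)⁻¹ yiN from by rw [← map_inv]; exact val_yi) val_t
    (Nat.eq_of_beq_eq_true (by decide +kernel)) (Nat.eq_of_beq_eq_true (by decide +kernel))
theorem conj0x : rho gx * b0 * rho gx = b1 :=
  ((val_x.mul' b0_val).mul' val_x).eq b1_val (by decide +kernel)
theorem conj0y : rho gyi * b0 * rho gy = b0 :=
  ((val_yi.mul' b0_val).mul' val_y).eq b0_val (by decide +kernel)
theorem conj1x : rho gx * b1 * rho gx = b0 :=
  ((val_x.mul' b1_val).mul' val_x).eq b0_val (by decide +kernel)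
theorem conj1y : rho gyi * b1 * rho gy = b2 :=
  ((val_yi.mul' b1_val).mul' val_y).eq b2_val (by decide +kernel)
theorem conj2x : rho gx * b2 * rho gx = b3 :=
  ((val_x.mul' b2_val).mul' val_x).eq b3_val (by decide +kernel)
theorem conj2y : rho gyi * b2 * rho gy = b4 :=
  ((val_yi.mul' b2_val).mul' val_y).eq b4_val (by decide +kernel)
theorem conj3x : rho gx * b3 * rho gx = b2 :=
  ((val_x.mul' b3_val).mul' val_x).eq b2_val (by decide +kernel)
theorem conj3y : rho gyi * b3 * rho gy = b5 :=
  ((val_yi.mul' b3_val).mul' val_y).eq b5_val (by decide +kernel)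
theorem conj4x : rho gx * b4 * rho gx = b6 :=
  ((val_x.mul' b4_val).mul' val_x).eq b6_val (by decide +kernel)
theorem conj4y : rho gyi * b4 * rho gy = b1 :=
  ((val_yi.mul' b4_val).mul' val_y).eq b1_val (by decide +kernel)
theorem conj5x : rho gx * b5 * rho gx = b7 :=
  ((val_x.mul' b5_val).mul' val_x).eq b7_val (by decide +kernel)
theorem conj5y : rho gyi * b5 * rho gy = b8 :=
  ((val_yi.mul' b5_val).mul' val_y).eq b8_val (by decide +kernel)
theorem conj6x : rho gx * b6 * rho gx = b4 :=
  ((val_x.mul' b6_val).mul' val_x).eq b4_val (by decide +kernel)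
theorem conj6y : rho gyi * b6 * rho gy = b1 * b2 * b3 * b6 * b8 :=
  ((val_yi.mul' b6_val).mul' val_y).eq ((((b1_val.mul' b2_val).mul' b3_val).mul' b6_val).mul' b8_val) (by decide +kernel)
theorem conj7x : rho gx * b7 * rho gx = b5 :=
  ((val_x.mul' b7_val).mul' val_x).eq b5_val (by decide +kernel)
theorem conj7y : rho gyi * b7 * rho gy = b2 * b4 * b7 :=
  ((val_yi.mul' b7_val).mul' val_y).eq ((b2_val.mul' b4_val).mul' b7_val) (by decide +kernel)
theorem conj8x : rho gx * b8 * rho gx = b9 :=
  ((val_x.mul' b8_val).mul' val_x).eq b9_val (by decide +kernel)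
theorem conj8y : rho gyi * b8 * rho gy = b3 :=
  ((val_yi.mul' b8_val).mul' val_y).eq b3_val (by decide +kernel)
theorem conj9x : rho gx * b9 * rho gx = b8 :=
  ((val_x.mul' b9_val).mul' val_x).eq b8_val (by decide +kernel)
theorem conj9y : rho gyi * b9 * rho gy = b10 :=
  ((val_yi.mul' b9_val).mul' val_y).eq b10_val (by decide +kernel)
theorem conj10x : rho gx * b10 * rho gx = b5 * b7 * b10 :=
  ((val_x.mul' b10_val).mul' val_x).eq ((b5_val.mul' b7_val).mul' b10_val) (by decide +kernel)
theorem conj10y : rho gyi * b10 * rho gy = b2 * b4 * b6 * b8 * b9 * b10 :=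
  ((val_yi.mul' b10_val).mul' val_y).eq (((((b2_val.mul' b4_val).mul' b6_val).mul' b8_val).mul' b9_val).mul' b10_val) (by decide +kernel)

attribute [irreducible] eA eB eC e23 q3 eh a29 a31 a37 a43 b0 b1 b2 b3 b4 b5 b6 b7 b8 b9 b10

end Cfsg.Agent.H16.J4Low
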