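import Cfsg.Agent.H16.J4Low.Checks
import Cfsg.Agent.H16.J4Low.AbsSimple
import Cfsg.Agent.Golay.Mathieu

/-!
The lower bound for the order of presented J4 and its simplicity given the order.
-/

set_option autoImplicit false
set_option maxRecDepth 100000

namespace Cfsg.Agent.H16.J4Low

open Cfsg.Spor Cfsg.Agent.H45.J4Mat Cfsg.Agent.H45.J4Rep

/-- packed image of the element of order 23 -/
noncomputable def pN : ℕ := mulN 112 xN yN

/-- conjugates of the element of order 23 -/
noncomputable def cnj (e : ℕ) : ℕ := mulN 112 (mulN 112 e pN) e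

/-- no product of the two halves commutes with the element of order 23 -/
noncomputable def pairB (U V : List ℕ) : Bool :=
  U.tail.all (fun a => V.all (fun b => neB 112 a b)) && V.tail.all (fun b => neB 112 pN b)

/-- the conjugates over the first six -/
noncomputable def cnjV : List ℕ := mapF cnj (spanN (bListN.take 6))

/-- the conjugates over the last five -/
noncomputable def cnjU : List ℕ := mapF cnj (spanN (bListN.drop 6))

theorem sq_check : bListN.all (fun a => Nat.beq (mulN 112 a a) (oneN 112 112)) = true := by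
  decide +kernel

theorem comm_check :
    bListN.all (fun a => bListN.all (fun b => Nat.beq (mulN 112 a b) (mulN 112 b a))) = true := by
  decide +kernel

theorem span_check : pairB cnjU cnjV = true := by
  decide +kernel

theorem forall₂_mem {α β : Type*} {R : α → β → Prop} {L : List α} {M : List β}
    (h : List.Forall₂ R L M) {a : α} (ha : a ∈ L) : ∃ b ∈ M, R a b := by
  induction h with
  | nil => simp at ha
  | cons hab _ ih =>
    rcases List.mem_cons.mp ha with rfl | ha
    · exact ⟨_, List.mem_cons_self, hab⟩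
    · obtain ⟨b, hb, hr⟩ := ih ha
      exact ⟨b, List.mem_cons_of_mem _ hb, hr⟩

theorem forall₂_tail {α β : Type*} {R : α → β → Prop} {L : List α} {M : List β}
    (h : List.Forall₂ R L M) : List.Forall₂ R L.tail M.tail := by
  cases h with
  | nil => exact List.Forall₂.nil
  | cons _ h => exact h

theorem gx_inv : (rho gx)⁻¹ = rho gx := by
  unfold gx
  rw [rho_of]; exact ux_inv

theorem gyi_eq : rho gyi = (rho gy)⁻¹ := by
  unfold gyi gy
  exact map_inv rho _

attribute [local irreducible] gx gy gyi gt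

/-- the elements of prime order as a function of the order -/
noncomputable def aF (p : ℕ) : GL112 :=
  if p = 29 then a29 else if p = 31 then a31 else if p = 37 then a37 else if p = 43 then a43 else 1

theorem b_forall {P : GL112 → Prop} (h0 : P b0) (h1 : P b1) (h2 : P b2) (h3 : P b3) (h4 : P b4)
    (h5 : P b5) (h6 : P b6) (h7 : P b7) (h8 : P b8) (h9 : P b9) (h10 : P b10) :
    ∀ b ∈ bList, P b := by
  unfold bList
  simp only [List.forall_mem_cons, List.not_mem_nil, false_implies, implies_true, and_true]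
  exact ⟨h0, h1, h2, h3, h4, h5, h6, h7, h8, h9, h10⟩

theorem bList_mem {S : Subgroup GL112} (hx : rho gx ∈ S) (hy : rho gy ∈ S) (hh : eh ∈ S) :
    ∀ e ∈ bList, e ∈ S := by
  have hyi : rho gyi ∈ S := gyi_eq ▸ inv_mem hy
  have h0 : b0 ∈ S := b0_eq ▸ hh
  have h1 : b1 ∈ S := conj0x ▸ mul_mem (mul_mem hx h0) hx
  have h2 : b2 ∈ S := conj1y ▸ mul_mem (mul_mem hyi h1) hy
  have h3 : b3 ∈ S := conj2x ▸ mul_mem (mul_mem hx h2) hx
  have h4 : b4 ∈ S := conj2y ▸ mul_mem (mul_mem hyi h2) hy
  have h5 : b5 ∈ S := conj3y ▸ mul_mem (mul_mem hyi h3) hy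
  have h6 : b6 ∈ S := conj4x ▸ mul_mem (mul_mem hx h4) hx
  have h7 : b7 ∈ S := conj5x ▸ mul_mem (mul_mem hx h5) hx
  have h8 : b8 ∈ S := conj5y ▸ mul_mem (mul_mem hyi h5) hy
  have h9 : b9 ∈ S := conj8x ▸ mul_mem (mul_mem hx h8) hx
  have h10 : b10 ∈ S := conj9y ▸ mul_mem (mul_mem hyi h9) hy
  exact b_forall h0 h1 h2 h3 h4 h5 h6 h7 h8 h9 h10

theorem aF_pow : ∀ p ∈ [29, 31, 37, 43], aF p ^ p = 1 := by
  simp only [List.forall_mem_cons, List.not_mem_nil, false_implies, implies_true, and_true, aF]
  exact ⟨a29_pow, a31_pow, a37_pow, a43_pow⟩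

theorem aF_ne : ∀ p ∈ [29, 31, 37, 43], aF p ≠ 1 := by
  simp only [List.forall_mem_cons, List.not_mem_nil, false_implies, implies_true, and_true, aF]
  exact ⟨a29_ne, a31_ne, a37_ne, a43_ne⟩

theorem aF_nc : ∀ p ∈ [29, 31, 37, 43], ¬ Commute (aF p) (rho gx) := by
  simp only [List.forall_mem_cons, List.not_mem_nil, false_implies, implies_true, and_true, aF]
  exact ⟨a29_not_comm_x, a31_not_comm_x, a37_not_comm_x, a43_not_comm_x⟩

theorem aF_mem (p : ℕ) : aF p ∈ rho.range := by
  unfold aF
  split_ifs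
  exacts [a29_mem, a31_mem, a37_mem, a43_mem, one_mem _]

theorem val_P : Val (rho gx * rho gy) pN := by
  unfold pN gx gy
  exact Val.mul' val_x val_y

theorem b_sq : ∀ b ∈ bList, b * b = 1 := fun a ha => by
  obtain ⟨n, hn, hv⟩ := forall₂_mem bList_val ha
  exact (hv.mul' hv).eq_one (Nat.eq_of_beq_eq_true (List.all_eq_true.mp sq_check n hn))

theorem b_comm : ∀ b ∈ bList, ∀ c ∈ bList, b * c = c * b := fun a ha b hb => by
  obtain ⟨n, hn, hv⟩ := forall₂_mem bList_val ha
  obtain ⟨m, hm, hw⟩ := forall₂_mem bList_val hb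
  exact hv.commute hw (List.all_eq_true.mp (List.all_eq_true.mp comm_check n hn) m hm)

theorem inv_conj_eq {u v g : GL112} (hu : u * u = 1) (hv : v * v = 1) (h : Commute g (u * v)) :
    u * g * u = v * g * v := by
  calc u * g * u = u * (g * (u * v)) * v := by simp only [mul_assoc, hv, mul_one]
    _ = u * (u * v * g) * v := by rw [h.eq]
    _ = v * g * v := by simp only [← mul_assoc, hu, one_mul]

theorem span_half_sq {L : List GL112} (hL : ∀ a ∈ L, a ∈ bList) : ∀ u ∈ spanU L, u * u = 1 := by
  induction L with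
  | nil => intro u hu; rw [spanU, List.mem_singleton] at hu; subst hu; exact one_mul 1
  | cons b L ih =>
    intro u hu
    have ih' := ih fun a ha => hL a (List.mem_cons_of_mem _ ha)
    rw [spanU, List.mem_append, List.mem_map] at hu
    rcases hu with hu | ⟨f, hf, rfl⟩
    · exact ih' u hu
    · have hc : Commute f b := by
        clear ih ih'
        have hLb : ∀ a ∈ L, Commute a b := fun a ha =>
          b_comm a (hL a (List.mem_cons_of_mem _ ha)) b (hL b List.mem_cons_self)
        clear hL
        induction L generalizing f with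
        | nil => rw [spanU, List.mem_singleton] at hf; subst hf; exact Commute.one_left b
        | cons a L ih =>
          rw [spanU, List.mem_append, List.mem_map] at hf
          rcases hf with hf | ⟨k, hk, rfl⟩
          · exact ih f hf fun c hc => hLb c (List.mem_cons_of_mem _ hc)
          · exact (ih k hk fun c hc => hLb c (List.mem_cons_of_mem _ hc)).mul_left
              (hLb a List.mem_cons_self)
      rw [mul_assoc, ← mul_assoc b f b, ← hc.eq, mul_assoc f b b, b_sq b (hL b List.mem_cons_self),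
        mul_one, ih' f hf]

theorem b_span : ∀ e ∈ (spanU bList).tail, ¬ Commute (rho gx * rho gy) e := fun e he hc => by
  have h6 := List.take_append_drop 6 bList
  rw [← h6] at he
  obtain ⟨u, hu, v, hv, rfl, ht⟩ := (spanU_append_tail _ _).2 e he
  have hu2 := span_half_sq (fun a ha => List.mem_of_mem_drop ha) u hu
  have hv2 := span_half_sq (fun a ha => List.mem_of_mem_take ha) v hv
  have heq := inv_conj_eq hu2 hv2 hc
  have hchk := span_check
  rw [pairB, Bool.and_eq_true] at hchk
  have hU := span_val (List.forall₂_drop 6 bList_val)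
  have hV := span_val (List.forall₂_take 6 bList_val)
  rcases ht with ht | ht
  · obtain ⟨n, hn, hun⟩ := forall₂_mem (forall₂_tail hU) ht
    obtain ⟨m, hm, hvm⟩ := forall₂_mem hV hv
    have hn' : cnj n ∈ cnjU.tail := by
      rw [cnjU, mapF_eq, ← List.map_tail]; exact List.mem_map_of_mem hn
    have hm' : cnj m ∈ cnjV := by rw [cnjV, mapF_eq]; exact List.mem_map_of_mem hm
    have h := List.all_eq_true.mp (List.all_eq_true.mp hchk.1 _ hn') _ hm'
    exact ((hun.mul' val_P).mul' hun).ne ((hvm.mul' val_P).mul' hvm) h heq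
  · obtain ⟨m, hm, hvm⟩ := forall₂_mem (forall₂_tail hV) ht
    obtain ⟨r, hr⟩ := exists_head_spanU (bList.drop 6)
    rw [hr, List.mem_cons] at hu
    rcases hu with rfl | hu
    · rw [one_mul, mul_one] at heq
      have hm' : cnj m ∈ cnjV.tail := by
        rw [cnjV, mapF_eq, ← List.map_tail]; exact List.mem_map_of_mem hm
      exact val_P.ne ((hvm.mul' val_P).mul' hvm) (List.all_eq_true.mp hchk.2 _ hm') heq
    · obtain ⟨n, hn, hun⟩ := forall₂_mem (forall₂_tail hU) (by rw [hr]; exact hu)
      have hn' : cnj n ∈ cnjU.tail := by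
        rw [cnjU, mapF_eq, ← List.map_tail]; exact List.mem_map_of_mem hn
      have hm' : cnj m ∈ cnjV := by
        rw [cnjV, mapF_eq]; exact List.mem_map_of_mem (List.mem_of_mem_tail hm)
      have h := List.all_eq_true.mp (List.all_eq_true.mp hchk.1 _ hn') _ hm'
      exact ((hun.mul' val_P).mul' hun).ne ((hvm.mul' val_P).mul' hvm) h heq

theorem b_conjx : ∀ b ∈ bList, rho gx * b * (rho gx)⁻¹ ∈ Subgroup.closure {g | g ∈ bList} := by
  have hb : ∀ b ∈ bList, b ∈ Subgroup.closure {g | g ∈ bList} :=
    fun b hb => Subgroup.subset_closure hb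
  generalize Subgroup.closure {g | g ∈ bList} = S at hb ⊢
  unfold bList at hb
  simp only [List.forall_mem_cons] at hb
  obtain ⟨h0, h1, h2, h3, h4, h5, h6, h7, h8, h9, h10, -⟩ := hb
  rw [gx_inv]
  apply b_forall
  · rw [conj0x]; exact h1
  · rw [conj1x]; exact h0
  · rw [conj2x]; exact h3
  · rw [conj3x]; exact h2
  · rw [conj4x]; exact h6
  · rw [conj5x]; exact h7
  · rw [conj6x]; exact h4
  · rw [conj7x]; exact h5
  · rw [conj8x]; exact h9
  · rw [conj9x]; exact h8
  · rw [conj10x]; exact (Subgroup.mul_mem _ (Subgroup.mul_mem _ h5 h7) h10)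

theorem b_conjy : ∀ b ∈ bList, (rho gy)⁻¹ * b * rho gy ∈ Subgroup.closure {g | g ∈ bList} := by
  have hb : ∀ b ∈ bList, b ∈ Subgroup.closure {g | g ∈ bList} :=
    fun b hb => Subgroup.subset_closure hb
  generalize Subgroup.closure {g | g ∈ bList} = S at hb ⊢
  unfold bList at hb
  simp only [List.forall_mem_cons] at hb
  obtain ⟨h0, h1, h2, h3, h4, h5, h6, h7, h8, h9, h10, -⟩ := hb
  rw [← gyi_eq]
  apply b_forall
  · rw [conj0y]; exact h0
  · rw [conj1y]; exact h2
  · rw [conj2y]; exact h4
  · rw [conj3y]; exact h5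
  · rw [conj4y]; exact h1
  · rw [conj5y]; exact h8
  · rw [conj6y]; exact (Subgroup.mul_mem _ (Subgroup.mul_mem _ (Subgroup.mul_mem _ (Subgroup.mul_mem _ h1 h2) h3) h6) h8)
  · rw [conj7y]; exact (Subgroup.mul_mem _ (Subgroup.mul_mem _ h2 h4) h7)
  · rw [conj8y]; exact h3
  · rw [conj9y]; exact h10
  · rw [conj10y]; exact (Subgroup.mul_mem _ (Subgroup.mul_mem _ (Subgroup.mul_mem _ (Subgroup.mul_mem _ (Subgroup.mul_mem _ h2 h4) h6) h8) h9) h10)

theorem eh_mem_closure : eh ∈ Subgroup.closure {g | g ∈ bList} :=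
  Subgroup.subset_closure (show eh ∈ bList by rw [← b0_eq]; unfold bList; exact List.mem_cons_self)

theorem g_pow23 : (rho gx * rho gy) ^ 23 = 1 := by rw [← e23_eq]; exact e23_pow

theorem gx_ne : rho gx ≠ 1 := by
  unfold gx
  rw [rho_of]; exact ux_ne_one

theorem gt_sq : rho gt * rho gt = 1 := by
  have h : gt * gt = 1 := by
    unfold gt
    have h := PresentedGroup.one_of_mem (rels := coxRelators J4.edges ∪ {r | r ∈ J4.extra})
      (x := J4.t ^ 2) (Or.inr (by simp [J4.extra]))
    rw [pow_two, map_mul] at h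
    exact h
  rw [← map_mul, h, map_one]

/-- the checked relations in the matrix group -/
noncomputable def cert0 : Cert GL112 where
  x := rho gx
  y := rho gy
  t := rho gt
  A := eA
  B := eB
  C := eC
  q := q3
  h := eh
  a := aF
  bs := bList
  x_ne := gx_ne
  sq := b_sq
  comm := b_comm
  span_nc := b_span
  len := rfl
  conjx := b_conjx
  conjy := b_conjy
  h_mem := eh_mem_closure
  bs_mem := bList_mem (Subgroup.subset_closure (Set.mem_insert _ _))
    (Subgroup.subset_closure (Set.mem_insert_of_mem _ (Set.mem_insert _ _)))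
    (Subgroup.subset_closure (Set.mem_insert_of_mem _ (Set.mem_insert_of_mem _ (Set.mem_singleton _))))
  g_pow := g_pow23
  A_pow := eA_pow
  A_ne := eA_ne
  B_pow := eB_pow
  B_ne := eB_ne
  C_pow := eC_pow
  C_ne := eC_ne
  C_eq := eC_eq
  A_C := eA_eC
  B_C := eB_eC
  C_nc := eC_not_comm_x
  a_pow := aF_pow
  a_ne := aF_ne
  a_nc := aF_nc
  q_pow := q3_pow
  q_ne := q3_ne
  q_eq := q3_eq
  t_sq := gt_sq

theorem mem_x : rho gx ∈ rho.range := ⟨gx, rfl⟩

theorem mem_y : rho gy ∈ rho.range := ⟨gy, rfl⟩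

theorem mem_t : rho gt ∈ rho.range := ⟨gt, rfl⟩

theorem b_mem_range : ∀ b ∈ bList, b ∈ rho.range :=
  b_forall (P := fun b => b ∈ rho.range) b0_mem b1_mem b2_mem b3_mem b4_mem b5_mem b6_mem b7_mem b8_mem b9_mem b10_mem

/-- the checked relations in the image of the representation -/
noncomputable def cert : Cert rho.range :=
  cert0.restrict rho.range mem_x mem_y mem_t eA_mem eB_mem eC_mem q3_mem eh_mem aF_mem b_mem_range

theorem cert_x : cert.x = rho.rangeRestrict gx := by
  apply Subtype.ext
  simp only [cert, cert0, Cert.restrict, MonoidHom.coe_rangeRestrict]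

theorem cert_y : cert.y = rho.rangeRestrict gy := by
  apply Subtype.ext
  simp only [cert, cert0, Cert.restrict, MonoidHom.coe_rangeRestrict]

theorem cert_t : cert.t = rho.rangeRestrict gt := by
  apply Subtype.ext
  simp only [cert, cert0, Cert.restrict, MonoidHom.coe_rangeRestrict]

theorem cert_h : (cert.h : GL112) = eh := by
  simp only [cert, cert0, Cert.restrict]

end Cfsg.Agent.H16.J4Low
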