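import Cfsg.Agent.H16.J4Low.Lower

/-!
Consumer statements on presented J4: the lower bound on its order and simplicity from the order.
-/

set_option autoImplicit false
set_option maxRecDepth 100000

namespace Cfsg.Agent.H16.J4Low

open Cfsg.Spor Cfsg.Agent.H45.J4Rep

theorem simple_of_equiv {A B : Type*} [Group A] [Group B] (h : IsSimpleGroup A) (e : A ≃* B) :
    IsSimpleGroup B := e.symm.isSimpleGroup

theorem simple_of_bijective {A B : Type*} [Group A] [Group B] (h : IsSimpleGroup B) (f : A →* B)
    (hf : Function.Bijective f) : IsSimpleGroup A := (MulEquiv.ofBijective f hf).isSimpleGroup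

theorem closure_gens : Subgroup.closure {gx, gy, gt} = ⊤ := by
  rw [eq_top_iff, ← PresentedGroup.closure_range_of, Subgroup.closure_le]
  rintro g ⟨i, rfl⟩
  apply Subgroup.subset_closure
  unfold gx gy gt
  cases i
  · exact Set.mem_insert _ _
  · exact Set.mem_insert_of_mem _ (Set.mem_insert _ _)
  · exact Set.mem_insert_of_mem _ (Set.mem_insert_of_mem _ (Set.mem_singleton _))

/-- the word conjugating `t` in the first long relation -/
noncomputable def gw : J4 := gy * gx * gy⁻¹ * gx * gy * gx * gy⁻¹ * gx

theorem gw_mem : gw ∈ Subgroup.closure {gx, gy} := by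
  have hx : gx ∈ Subgroup.closure {gx, gy} := Subgroup.subset_closure (Set.mem_insert _ _)
  have hy : gy ∈ Subgroup.closure {gx, gy} :=
    Subgroup.subset_closure (Set.mem_insert_of_mem _ (Set.mem_singleton _))
  unfold gw
  exact mul_mem (mul_mem (mul_mem (mul_mem (mul_mem (mul_mem (mul_mem hy hx) (inv_mem hy)) hx) hy) hx)
    (inv_mem hy)) hx

theorem rel_yt : (gy * (gw⁻¹ * gt * gw)) ^ 3 = 1 := by
  have h := PresentedGroup.one_of_mem (rels := coxRelators J4.edges ∪ {r | r ∈ J4.extra})
    (x := (J4.y * ((J4.y * J4.x * (J4.y⁻¹) * J4.x * J4.y * J4.x * (J4.y⁻¹) * J4.x)⁻¹ * J4.t *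
      (J4.y * J4.x * (J4.y⁻¹) * J4.x * J4.y * J4.x * (J4.y⁻¹) * J4.x))) ^ 3)
    (Or.inr (by simp [J4.extra]))
  simp only [map_pow, map_mul, map_inv] at h
  unfold gw gx gy gt
  exact h

attribute [local irreducible] gx gy gt gw

section M24

variable (phi : Cfsg.M24 →* J4)
  (hr : phi.range = Subgroup.closure {PresentedGroup.of J4.Gen.x, PresentedGroup.of J4.Gen.y})
include hr

theorem range_phi : phi.range = Subgroup.closure {gx, gy} := by
  unfold gx gy; exact hr

theorem range_comp : (rho.rangeRestrict.comp phi).range = cert.M := by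
  rw [MonoidHom.range_comp, range_phi phi hr, MonoidHom.map_closure, Set.image_pair,
    Cert.M, cert_x, cert_y]

theorem nonempty_equiv : Nonempty (Cfsg.M24 ≃* cert.M) := by
  have := Cfsg.Agent.Golay.isSimpleGroup_M24
  have hinj : Function.Injective (rho.rangeRestrict.comp phi) := by
    rw [← MonoidHom.ker_eq_bot_iff]
    rcases (MonoidHom.normal_ker (rho.rangeRestrict.comp phi)).eq_bot_or_eq_top with h | h
    · exact h
    · exfalso
      rw [MonoidHom.ker_eq_top_iff] at h
      have hx := cert.x_mem
      rw [← range_comp phi hr, h] at hx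
      obtain ⟨m, hm⟩ := hx
      exact cert.x_ne hm.symm
  exact ⟨(MonoidHom.ofInjective hinj).trans (MulEquiv.subgroupCongr (range_comp phi hr))⟩

theorem card_M : Nat.card cert.M = 244823040 := by
  obtain ⟨e⟩ := nonempty_equiv phi hr
  rw [← Nat.card_congr e.toEquiv]; exact Cfsg.Agent.Golay.card_M24

theorem simple_M : IsSimpleGroup cert.M := by
  obtain ⟨e⟩ := nonempty_equiv phi hr
  exact simple_of_equiv Cfsg.Agent.Golay.isSimpleGroup_M24 e

/-- the order of presented J4 is a multiple of the order of J4 -/
theorem card_dvd : 86775571046077562880 ∣ Nat.card J4 :=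
  (cert.card_dvd (card_M phi hr) (simple_M phi hr)).trans (Subgroup.card_range_dvd rho)

/-- the subgroup generated by `x`, `y` and the element `h` has order a multiple of `2^11 |M24|` -/
theorem card_H_dvd : 244823040 * 2 ^ 11 ∣ Nat.card (Subgroup.closure
    {PresentedGroup.of J4.Gen.x, PresentedGroup.of J4.Gen.y,
      (PresentedGroup.of J4.Gen.y *
        (((PresentedGroup.of J4.Gen.y * PresentedGroup.of J4.Gen.x) ^ 4 *
            (PresentedGroup.of J4.Gen.y)⁻¹ * PresentedGroup.of J4.Gen.x)⁻¹ *
          PresentedGroup.of J4.Gen.t *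
          ((PresentedGroup.of J4.Gen.y * PresentedGroup.of J4.Gen.x) ^ 4 *
            (PresentedGroup.of J4.Gen.y)⁻¹ * PresentedGroup.of J4.Gen.x))) ^ 3} : Subgroup J4) := by
  have key : ∀ w : J4, rho w = eh →
      244823040 * 2 ^ 11 ∣ Nat.card (Subgroup.closure {gx, gy, w} : Subgroup J4) := by
    intro w hw
    have hmap : (Subgroup.closure {gx, gy, w}).map rho.rangeRestrict = cert.M ⊔ cert.E := by
      rw [← cert.closure_xyh, MonoidHom.map_closure, Set.image_insert_eq, Set.image_pair,
        show rho.rangeRestrict w = cert.h from Subtype.ext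
          (((MonoidHom.coe_rangeRestrict rho w).trans hw).trans cert_h.symm), cert_x, cert_y]
    rw [← cert.card_H (card_M phi hr) (simple_M phi hr), ← hmap]
    exact Subgroup.card_map_dvd _ rho.rangeRestrict
  have h := key ((gy * (((gy * gx) ^ 4 * gy⁻¹ * gx)⁻¹ * gt *
      ((gy * gx) ^ 4 * gy⁻¹ * gx))) ^ 3) (by
    rw [eh_eq]
    simp only [map_pow, map_mul, map_inv])
  unfold gx gy gt at h
  exact h

/-- presented J4 of the expected order is simple -/
theorem simple (hc : Nat.card J4 = 86775571046077562880) : IsSimpleGroup J4 := by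
  have hfin : Finite J4 := Nat.finite_of_card_ne_zero (by rw [hc]; norm_num)
  have hd1 := cert.card_dvd (card_M phi hr) (simple_M phi hr)
  have hd2 := Subgroup.card_range_dvd rho
  rw [hc] at hd2
  have hcR : Nat.card rho.range = 86775571046077562880 := Nat.dvd_antisymm hd2 hd1
  have hbij : Function.Bijective rho.rangeRestrict :=
    rho.rangeRestrict_surjective.bijective_of_nat_card_le (le_of_eq (hc.trans hcR.symm))
  have hgen : Subgroup.closure {cert.x, cert.y, cert.t} = ⊤ := by
    have h := congrArg (Subgroup.map rho.rangeRestrict) closure_gens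
    rw [MonoidHom.map_closure, Set.image_insert_eq, Set.image_pair,
      Subgroup.map_top_of_surjective _ rho.rangeRestrict_surjective] at h
    rw [cert_x, cert_y, cert_t]
    exact h
  have hrel : ∃ w ∈ cert.M, (cert.y * (w⁻¹ * cert.t * w)) ^ 3 = 1 := by
    refine ⟨rho.rangeRestrict gw, ?_, ?_⟩
    · rw [← range_comp phi hr, MonoidHom.range_comp, range_phi phi hr]
      exact ⟨gw, gw_mem, rfl⟩
    · have h := congrArg rho.rangeRestrict rel_yt
      rw [map_pow, map_mul, map_mul, map_mul, map_inv, map_one] at h
      rw [cert_y, cert_t]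
      exact h
  exact simple_of_bijective (cert.simple (card_M phi hr) (simple_M phi hr) hgen hrel hcR) _ hbij

end M24

end Cfsg.Agent.H16.J4Low
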