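import Cfsg.Agent.H45.J4Rep

/-!
Evaluation of words in the 112-dimensional representation of the presented group J4 on packed numbers,
and elementary facts on spans of commuting involutions.
-/

set_option autoImplicit false

namespace Cfsg.Agent.H16.J4Low

open Cfsg.Spor Cfsg.Agent.H45.J4Mat Cfsg.Agent.H45.J4Rep

/-- the unit `u` is packed by `n` -/
def Val (u : GL112) (n : ℕ) : Prop := (u : Matrix (Fin 112) (Fin 112) (ZMod 2)) = toMat 112 n

theorem Val.mul {u v : GL112} {a b c : ℕ} (hu : Val u a) (hv : Val v b)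
    (h : Nat.beq (mulN 112 a b) c = true) : Val (u * v) c := by
  unfold Val at *
  rw [Units.val_mul, hu, hv, ← toMat_mulN, Nat.eq_of_beq_eq_true h]

theorem Val.one : Val 1 (oneN 112 112) := by
  unfold Val
  rw [Units.val_one, toMat_oneN]

theorem Val.mul' {u v : GL112} {a b : ℕ} (hu : Val u a) (hv : Val v b) :
    Val (u * v) (mulN 112 a b) := by
  unfold Val at *
  rw [Units.val_mul, hu, hv, ← toMat_mulN]

theorem Val.eq {u v : GL112} {a b : ℕ} (hu : Val u a) (hv : Val v b)
    (h : Nat.beq a b = true) : u = v := by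
  unfold Val at *
  exact Units.ext (by rw [hu, hv, Nat.eq_of_beq_eq_true h])

theorem Val.eq' {u v : GL112} {a b : ℕ} (hu : Val u a) (hv : Val v b) (h : a = b) : u = v := by
  unfold Val at *
  exact Units.ext (by rw [hu, hv, h])

theorem Val.eq_one {u : GL112} {a : ℕ} (hu : Val u a) (h : a = oneN 112 112) : u = 1 :=
  hu.eq' Val.one h

theorem Val.pow_eq_one {u : GL112} {a : ℕ} (hu : Val u a) (k : ℕ)
    (h : Nat.beq (powN 112 a k) (oneN 112 112) = true) : u ^ k = 1 := by
  unfold Val at hu
  exact Units.ext (by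
    rw [Units.val_pow_eq_pow_val, hu, ← toMat_powN, Nat.eq_of_beq_eq_true h, toMat_oneN,
      Units.val_one])

theorem toMat_inj {d a b : ℕ} (ha : a < 2 ^ (d * d)) (hb : b < 2 ^ (d * d))
    (h : toMat d a = toMat d b) : a = b := by
  refine Nat.eq_of_testBit_eq fun i => ?_
  by_cases hi : i < d * d
  · have hd : 0 < d := by
      rcases d.eq_zero_or_pos with rfl | hd
      · simp at hi
      · exact hd
    have h1 := congrFun (congrFun h ⟨i / d, Nat.div_lt_of_lt_mul hi⟩) ⟨i % d, Nat.mod_lt _ hd⟩
    simp only [toMat, Nat.div_add_mod] at h1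
    revert h1
    cases a.testBit i <;> cases b.testBit i <;> simp [bz]
  · rw [Nat.testBit_lt_two_pow (ha.trans_le (Nat.pow_le_pow_right (by norm_num) (by omega))),
      Nat.testBit_lt_two_pow (hb.trans_le (Nat.pow_le_pow_right (by norm_num) (by omega)))]

/-- powers of two -/
def lim (d : ℕ) : ℕ := 2 ^ (d * d)

/-- two packed numbers of full size are different -/
noncomputable def neB (d a b : ℕ) : Bool :=
  Nat.blt a (lim d) && (Nat.blt b (lim d) && !(Nat.beq a b))

theorem toMat_ne {d a b : ℕ} (h : neB d a b = true) : toMat d a ≠ toMat d b := by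
  simp only [neB, Bool.and_eq_true, Bool.not_eq_true'] at h
  obtain ⟨ha, hb, hab⟩ := h
  intro he
  have h' := toMat_inj (Nat.le_of_ble_eq_true ha) (Nat.le_of_ble_eq_true hb) he
  subst h'
  simp at hab

theorem Val.ne {u v : GL112} {a b : ℕ} (hu : Val u a) (hv : Val v b) (h : neB 112 a b = true) :
    u ≠ v := by
  intro huv
  subst huv
  unfold Val at hu hv
  exact toMat_ne h (hu.symm.trans hv)

theorem Val.commute {u v : GL112} {a b : ℕ} (hu : Val u a) (hv : Val v b)
    (h : Nat.beq (mulN 112 a b) (mulN 112 b a) = true) : Commute u v :=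
  (hu.mul' hv).eq (hv.mul' hu) h

theorem Val.not_commute {u v : GL112} {a b : ℕ} (hu : Val u a) (hv : Val v b)
    (h : neB 112 (mulN 112 a b) (mulN 112 b a) = true) : ¬ Commute u v :=
  fun hc => (hu.mul' hv).ne (hv.mul' hu) h hc

theorem Val.pow' {u : GL112} {a : ℕ} (hu : Val u a) (k : ℕ) : Val (u ^ k) (powN 112 a k) := by
  unfold Val at *
  rw [Units.val_pow_eq_pow_val, hu, ← toMat_powN]

theorem val_x : Val (rho (PresentedGroup.of J4.Gen.x)) xN := by
  rw [rho_of]; exact ux_val

theorem val_y : Val (rho (PresentedGroup.of J4.Gen.y)) yN := by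
  rw [rho_of]; exact uy_val

theorem val_t : Val (rho (PresentedGroup.of J4.Gen.t)) tN := by
  rw [rho_of]; exact ut_val

theorem val_yi : Val (rho (PresentedGroup.of J4.Gen.y)⁻¹) yiN := by
  rw [map_inv, rho_of]; exact uy_inv_val

theorem val_map_mul {g h : J4} {a b c : ℕ} (hg : Val (rho g) a) (hh : Val (rho h) b)
    (hc : Nat.beq (mulN 112 a b) c = true) : Val (rho (g * h)) c := by
  rw [map_mul]; exact hg.mul hh hc

section

theorem inv_aux {G : Type*} [Group G] (u w : G) (e : u * w = 1) : u⁻¹ = w :=
  inv_eq_of_mul_eq_one_right e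

attribute [local irreducible] mulN powN oneN toMat

/-- the word of the element h, checked on packed matrices -/
theorem h_word {h x y t : GL112} {H X Y Yi T : ℕ} (hh : Val h H) (hx : Val x X) (hy : Val y Y)
    (hyi : Val y⁻¹ Yi) (ht : Val t T)
    (h1 : (mulN 112 (mulN 112 (mulN 112 (powN 112 (mulN 112 Y X) 4) Yi) X)
      (mulN 112 (mulN 112 X Y) (powN 112 (mulN 112 X Yi) 4))) = oneN 112 112)
    (h2 : H = (powN 112 (mulN 112 Y (mulN 112
      (mulN 112 (mulN 112 (mulN 112 X Y) (powN 112 (mulN 112 X Yi) 4)) T)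
      (mulN 112 (mulN 112 (powN 112 (mulN 112 Y X) 4) Yi) X))) 3)) :
    h = (y * (((y * x) ^ 4 * y⁻¹ * x)⁻¹ * t * ((y * x) ^ 4 * y⁻¹ * x))) ^ 3 := by
  have hv := (((hy.mul' hx).pow' 4).mul' hyi).mul' hx
  have hw := (hx.mul' hy).mul' ((hx.mul' hyi).pow' 4)
  have h4 := hv.mul' hw
  rw [h1] at h4
  have h3 : (y * x) ^ 4 * y⁻¹ * x * (x * y * (x * y⁻¹) ^ 4) = 1 := h4.eq_one rfl
  have h5 := inv_aux (G := GL112) ((y * x) ^ 4 * y⁻¹ * x) (x * y * (x * y⁻¹) ^ 4)
  have h6 := h5 h3
  rw [h6]
  rw [h2] at hh
  exact hh.eq' ((hy.mul' ((hw.mul' ht).mul' hv)).pow' 3) rfl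

end

/-- all subset products of a list -/
def spanU {G : Type*} [Group G] : List G → List G
  | [] => [1]
  | b :: L => spanU L ++ (spanU L).map (· * b)

/-- strict map on lists of packed matrices -/
noncomputable def mapF (f : ℕ → ℕ) : List ℕ → List ℕ
  | [] => []
  | a :: l => Cfsg.Agent.H45.force (f a) fun r => r :: mapF f l

theorem mapF_eq (f : ℕ → ℕ) : ∀ l, mapF f l = l.map f
  | [] => rfl
  | a :: l => by rw [mapF, Cfsg.Agent.H45.force_eq, mapF_eq f l, List.map_cons]

/-- all subset products of a list of packed matrices -/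
noncomputable def spanN : List ℕ → List ℕ
  | [] => [oneN 112 112]
  | b :: L => spanN L ++ mapF (mulN 112 · b) (spanN L)

theorem span_val : ∀ {L : List GL112} {M : List ℕ}, List.Forall₂ Val L M →
    List.Forall₂ Val (spanU L) (spanN M) := by
  intro L M h
  induction h with
  | nil => exact List.Forall₂.cons Val.one List.Forall₂.nil
  | cons hab hLM ih =>
    refine List.rel_append ih ?_
    rw [mapF_eq]
    rw [List.forall₂_map_left_iff, List.forall₂_map_right_iff]
    exact List.Forall₂.imp (fun _ _ h => h.mul' hab) ih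

theorem one_mem_spanU {G : Type*} [Group G] : ∀ L : List G, (spanU L).head? = some 1
  | [] => rfl
  | b :: L => by rw [spanU, List.head?_append, one_mem_spanU L]; rfl

theorem exists_head_spanU {G : Type*} [Group G] (L : List G) : ∃ r, spanU L = 1 :: r := by
  have h := one_mem_spanU L
  rcases hS : spanU L with _ | ⟨a, r⟩
  · rw [hS] at h; simp at h
  · rw [hS] at h; simp at h; exact ⟨r, by rw [h]⟩

/-- a product over a list split in two parts -/
theorem spanU_append_tail {G : Type*} [Group G] (L2 : List G) : ∀ L1 : List G,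
    (∀ e ∈ spanU (L1 ++ L2), ∃ u ∈ spanU L2, ∃ v ∈ spanU L1, e = u * v) ∧
    (∀ e ∈ (spanU (L1 ++ L2)).tail, ∃ u ∈ spanU L2, ∃ v ∈ spanU L1, e = u * v ∧
      (u ∈ (spanU L2).tail ∨ v ∈ (spanU L1).tail)) := by
  intro L1
  induction L1 with
  | nil =>
    exact ⟨fun e he => ⟨e, he, 1, List.mem_singleton.mpr rfl, (mul_one e).symm⟩,
      fun e he => ⟨e, List.mem_of_mem_tail he, 1, List.mem_singleton.mpr rfl, (mul_one e).symm,
        Or.inl he⟩⟩
  | cons b L ih =>
    obtain ⟨r, hr⟩ := exists_head_spanU (L ++ L2)
    obtain ⟨r', hr'⟩ := exists_head_spanU L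
    have h1 : spanU (b :: L) = spanU L ++ (spanU L).map (· * b) := rfl
    have ht : (spanU (b :: L)).tail = r' ++ (spanU L).map (· * b) := by rw [h1, hr']; rfl
    constructor
    · intro e he
      rw [List.cons_append, spanU, List.mem_append, List.mem_map] at he
      rcases he with he | ⟨f, hf, rfl⟩
      · obtain ⟨u, hu, v, hv, rfl⟩ := ih.1 e he
        exact ⟨u, hu, v, h1 ▸ List.mem_append_left _ hv, rfl⟩
      · obtain ⟨u, hu, v, hv, rfl⟩ := ih.1 f hf
        exact ⟨u, hu, v * b, h1 ▸ List.mem_append_right _ (List.mem_map_of_mem hv), mul_assoc _ _ _⟩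
    · intro e he
      rw [List.cons_append, spanU, hr, List.cons_append, List.tail_cons, List.mem_append,
        List.mem_map] at he
      rcases he with he | ⟨f, hf, rfl⟩
      · obtain ⟨u, hu, v, hv, rfl, ht'⟩ := ih.2 e (by rw [hr]; exact he)
        refine ⟨u, hu, v, h1 ▸ List.mem_append_left _ hv, rfl, ?_⟩
        rcases ht' with h | h
        · exact Or.inl h
        · rw [hr'] at h
          exact Or.inr (ht ▸ List.mem_append_left _ h)
      · obtain ⟨u, hu, v, hv, rfl⟩ := ih.1 f (by rw [hr]; exact hf)
        exact ⟨u, hu, v * b, h1 ▸ List.mem_append_right _ (List.mem_map_of_mem hv), mul_assoc _ _ _,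
          Or.inr (ht ▸ List.mem_append_right _ (List.mem_map_of_mem hv))⟩

theorem spanU_spec {G : Type*} [Group G] [Finite G] : ∀ L : List G,
    (∀ a ∈ L, a * a = 1) → (∀ a ∈ L, ∀ b ∈ L, a * b = b * a) →
    (∀ e ∈ (spanU L).tail, e ≠ 1) →
    (∀ g, g ∈ Subgroup.closure {g | g ∈ L} ↔ g ∈ spanU L) ∧
      Nat.card (Subgroup.closure {g | g ∈ L}) = 2 ^ L.length := by
  intro L
  induction L with
  | nil =>
    intro _ _ _
    have h : Subgroup.closure {g : G | g ∈ ([] : List G)} = ⊥ := by
      rw [Subgroup.closure_eq_bot_iff]; simp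
    refine ⟨fun g => ?_, ?_⟩
    · rw [h, spanU, Subgroup.mem_bot, List.mem_singleton]
    · rw [h, Subgroup.card_bot]; rfl
  | cons b L ih =>
    intro hsq hcm hne
    have hhead : ∀ L' : List G, ∃ r, spanU L' = 1 :: r := by
      intro L'
      have h := one_mem_spanU L'
      rcases hS : spanU L' with _ | ⟨a, r⟩
      · rw [hS] at h; simp at h
      · rw [hS] at h; simp at h; exact ⟨r, by rw [h]⟩
    obtain ⟨r, hr⟩ := hhead L
    have htail : (spanU (b :: L)).tail = r ++ (spanU L).map (· * b) := by
      rw [spanU, hr]; rfl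
    rw [htail] at hne
    obtain ⟨hmem, hcard⟩ := ih (fun a ha => hsq a (List.mem_cons_of_mem _ ha))
      (fun a ha c hc => hcm a (List.mem_cons_of_mem _ ha) c (List.mem_cons_of_mem _ hc))
      (fun e he => hne e (List.mem_append_left _ (by rw [hr] at he; exact he)))
    set K := Subgroup.closure {g : G | g ∈ L} with hK
    have hbcomm : ∀ k ∈ K, k * b = b * k := by
      intro k hk
      have hle : K ≤ Subgroup.centralizer {b} := by
        rw [hK, Subgroup.closure_le]
        intro a ha
        rw [SetLike.mem_coe, Subgroup.mem_centralizer_singleton_iff]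
        exact hcm a (List.mem_cons_of_mem _ ha) b List.mem_cons_self
      exact Subgroup.mem_centralizer_singleton_iff.mp (hle hk)
    have hbb : b * b = 1 := hsq b List.mem_cons_self
    have hbinv : b⁻¹ = b := inv_eq_of_mul_eq_one_right hbb
    let U : Subgroup G :=
      { carrier := {g | g ∈ K ∨ g * b ∈ K}
        one_mem' := Or.inl (one_mem K)
        mul_mem' := by
          rintro p q (hp | hp) (hq | hq)
          · exact Or.inl (mul_mem hp hq)
          · exact Or.inr (by rw [mul_assoc]; exact mul_mem hp hq)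
          · refine Or.inr ?_
            have : p * q * b = (p * b) * q := by rw [mul_assoc, hbcomm q hq, ← mul_assoc]
            rw [this]; exact mul_mem hp hq
          · refine Or.inl ?_
            have : p * q = (p * b) * (q * b) := by
              have h2 : b * (q * b) = q := by
                rw [← hbcomm _ hq, mul_assoc, hbb, mul_one]
              rw [mul_assoc, h2]
            rw [this]; exact mul_mem hp hq
        inv_mem' := by
          rintro p (hp | hp)
          · exact Or.inl (inv_mem hp)
          · refine Or.inr ?_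
            have hc : Commute ((p * b) * b) b :=
              Commute.mul_left (hbcomm _ hp) (Commute.refl b)
            rw [mul_assoc, hbb, mul_one] at hc
            have : p⁻¹ * b = (p * b)⁻¹ := by
              rw [mul_inv_rev, hbinv]; exact hc.inv_left
            rw [this]; exact inv_mem hp }
    have hU : Subgroup.closure {g : G | g ∈ b :: L} = U := by
      apply le_antisymm
      · rw [Subgroup.closure_le]
        intro a ha
        rcases List.mem_cons.mp ha with rfl | ha
        · exact Or.inr (by rw [hbb]; exact one_mem K)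
        · exact Or.inl (Subgroup.subset_closure ha)
      · have hKle : K ≤ Subgroup.closure {g : G | g ∈ b :: L} :=
          Subgroup.closure_mono fun a ha => List.mem_cons_of_mem _ ha
        rintro p (hp | hp)
        · exact hKle hp
        · have : p = (p * b) * b := by rw [mul_assoc, hbb, mul_one]
          rw [this]
          exact mul_mem (hKle hp) (Subgroup.subset_closure List.mem_cons_self)
    have hbK : b ∉ K := by
      intro hb
      exact hne (b * b) (List.mem_append_right _ (List.mem_map_of_mem ((hmem b).mp hb))) hbb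
    have hiff : ∀ g : G, g ∈ U ↔ g ∈ K ∨ g * b ∈ K := fun g => Iff.rfl
    constructor
    · intro g
      rw [hU, hiff, spanU, List.mem_append, List.mem_map, hmem, hmem]
      constructor
      · rintro (h | h)
        · exact Or.inl h
        · exact Or.inr ⟨g * b, h, by rw [mul_assoc, hbb, mul_one]⟩
      · rintro (h | ⟨a, ha, rfl⟩)
        · exact Or.inl h
        · exact Or.inr (by rw [mul_assoc, hbb, mul_one]; exact ha)
    · have hset : (U : Set G) = (K : Set G) ∪ (· * b) '' (K : Set G) := by
        ext g
        simp only [Set.mem_union, Set.mem_image, SetLike.mem_coe, hiff]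
        constructor
        · rintro (h | h)
          · exact Or.inl h
          · exact Or.inr ⟨g * b, h, by rw [mul_assoc, hbb, mul_one]⟩
        · rintro (h | ⟨a, ha, rfl⟩)
          · exact Or.inl h
          · exact Or.inr (by rw [mul_assoc, hbb, mul_one]; exact ha)
      have hdis : Disjoint (K : Set G) ((· * b) '' (K : Set G)) := by
        rw [Set.disjoint_left]
        rintro g hg ⟨a, ha, rfl⟩
        exact hbK ((K.mul_mem_cancel_left ha).mp hg)
      rw [hU, List.length_cons, pow_succ, ← hcard]
      have hc : ((U : Set G)).ncard = (K : Set G).ncard + (K : Set G).ncard := by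
        rw [hset, Set.ncard_union_eq hdis, Set.ncard_image_of_injective _ (mul_left_injective b)]
      rw [← Nat.card_coe_set_eq, ← Nat.card_coe_set_eq] at hc
      simpa [mul_two] using hc

end Cfsg.Agent.H16.J4Low
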